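/-
Elementary facts about automorphism groups in fusion systems and powers of elements of order prime
to a prime.
-/
import Cfsg.Agent.Fusion.Saturation
import Cfsg.Agent.LocalStructure.Elements

set_option autoImplicit false

namespace CfsgLib.FusionLayer

open Cfsg Cfsg.FusionSystem CfsgLib.Fusion

/-- A power of `b` of order prime to `p` that does not move a power-compatible element `a` of order
prime to `p`. -/
theorem exists_coprime_pow {A B : Type*} [Group A] [Group B] [Finite B] {p : ℕ} [Fact p.Prime]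
    {a : A} (ha : (orderOf a).Coprime p) (b : B) :
    ∃ k : ℕ, (orderOf (b ^ k)).Coprime p ∧ a ^ k = a := by
  have hp : p.Prime := Fact.out
  obtain ⟨j, m, hm, hn⟩ := Nat.exists_eq_pow_mul_and_not_dvd (orderOf_pos b).ne' p hp.ne_one
  obtain ⟨r, hr⟩ := exists_pow_eq_self_of_coprime (n := p ^ j) (x := a) (ha.pow_right j).symm
  refine ⟨p ^ j * r, ?_, by rw [pow_mul]; exact hr⟩
  refine Nat.Coprime.of_dvd_left ?_ ((hp.coprime_iff_not_dvd).2 hm).symm
  refine orderOf_dvd_of_pow_eq_one ?_
  rw [← pow_mul, show p ^ j * r * m = p ^ j * m * r by ring, ← hn, pow_mul, pow_orderOf_eq_one,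
    one_pow]

/-- An injective endomorphism of a finite subgroup gives an automorphism. -/
theorem exists_restrict_aut {Ω : Type*} [Group Ω] {S : Subgroup Ω} [Finite S] {F : FusionSystem S}
    {W V : Subgroup Ω} (hVW : V ≤ W) (hW : W ≤ S) {a : MulAut W} (ha : a ∈ F.autGroup W)
    (h : ∀ x : W, (x : Ω) ∈ V → (a x : Ω) ∈ V) :
    ∃ b ∈ F.autGroup V, ∀ x : V, (b x : Ω) = (a (Subgroup.inclusion hVW x) : Ω) := by
  have hI := (mem_autGroup_iff hW).1 ha
  have := finite_of_le (hVW.trans hW)
  refine (exists_iso (restrict_mem hI hVW) ?_).elim fun b hb =>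
    ⟨b, hb.1.mem_autGroup, fun x => hb.2 x⟩
  refine Subgroup.eq_of_le_of_card_ge ?_ ?_
  · rintro _ ⟨x, rfl⟩
    exact h _ x.2
  · rw [range_restrictHom, card_imgHom (F.injective_of_mem hI) hVW]

/-- Powers of automorphisms agreeing on a subgroup agree. -/
theorem pow_agree {Ω : Type*} [Group Ω] {V W : Subgroup Ω} (hVW : V ≤ W) {b : MulAut V}
    {a : MulAut W} (h : ∀ x : V, (b x : Ω) = (a (Subgroup.inclusion hVW x) : Ω)) (n : ℕ) :
    ∀ x : V, ((b ^ n) x : Ω) = ((a ^ n) (Subgroup.inclusion hVW x) : Ω) := by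
  induction n with
  | zero => exact fun x => rfl
  | succ n ih =>
    intro x
    rw [pow_succ, pow_succ, MulAut.mul_apply, MulAut.mul_apply, ih (b x),
      show a (Subgroup.inclusion hVW x) = Subgroup.inclusion hVW (b x) from Subtype.ext (h x).symm]

/-- An automorphism moving every element within a fixed finite `p`-group has `p`-power order,
once it fixes those displacements. -/
theorem pow_eq_one_of_displacement {G : Type*} [Group G] {a : MulAut G} {n : ℕ}
    (hfix : ∀ x, a (x⁻¹ * a x) = x⁻¹ * a x) (hn : ∀ x, (x⁻¹ * a x) ^ n = 1) : a ^ n = 1 := by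
  have hit : ∀ (m : ℕ) (x : G), (a ^ m) x = x * (x⁻¹ * a x) ^ m := by
    intro m
    induction m with
    | zero => simp
    | succ m ih =>
      intro x
      rw [pow_succ', MulAut.mul_apply, ih, map_mul, map_pow, hfix, pow_succ', ← mul_assoc,
        mul_inv_cancel_left]
  exact MulEquiv.ext fun x => by rw [hit, hn, mul_one, MulAut.one_apply]

/-- An automorphism of order prime to `p` is trivial where it fixes its displacement modulo a
normal subgroup, the displacement being a `p`-element. -/
theorem displacement_mem {G : Type*} [Group G] {p : ℕ} {a : MulAut G} (ha : (orderOf a).Coprime p)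
    {N : Subgroup G} (hN : N.Normal) (hNa : ∀ x ∈ N, a x ∈ N) {x : G}
    (hfix : (x⁻¹ * a x)⁻¹ * a (x⁻¹ * a x) ∈ N) (hp : ∃ k : ℕ, (x⁻¹ * a x) ^ p ^ k = 1) :
    x⁻¹ * a x ∈ N := by
  have hp' : ∃ k : ℕ, QuotientGroup.mk' N (x⁻¹ * a x) ^ p ^ k = 1 :=
    hp.imp fun k hk => by rw [← map_pow, hk, map_one]
  have hdfix : ∀ n : ℕ, QuotientGroup.mk' N ((a ^ n) (x⁻¹ * a x)) =
      QuotientGroup.mk' N (x⁻¹ * a x) := by
    intro n
    induction n with
    | zero => rfl
    | succ n ih =>
      refine Eq.trans ?_ ih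
      rw [pow_succ, MulAut.mul_apply]
      refine (QuotientGroup.eq).2 ?_
      rw [← map_inv, ← map_mul]
      have hmem : ∀ (m : ℕ) (y : G), y ∈ N → (a ^ m) y ∈ N := by
        intro m
        induction m with
        | zero => exact fun y hy => hy
        | succ m ihm => exact fun y hy => by rw [pow_succ, MulAut.mul_apply]; exact ihm _ (hNa y hy)
      refine hmem n _ ?_
      have := inv_mem hfix
      rwa [mul_inv_rev, inv_inv] at this
  have hit : ∀ n : ℕ, QuotientGroup.mk' N ((a ^ n) x) =
      QuotientGroup.mk' N x * QuotientGroup.mk' N (x⁻¹ * a x) ^ n := by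
    intro n
    induction n with
    | zero => simp
    | succ n ih =>
      rw [pow_succ, MulAut.mul_apply, show (a ^ n) (a x) = (a ^ n) x * (a ^ n) (x⁻¹ * a x) by
        rw [← map_mul, mul_inv_cancel_left], map_mul, ih, hdfix, pow_succ, mul_assoc]
  have h1 := hit (orderOf a)
  rw [pow_orderOf_eq_one, MulAut.one_apply, left_eq_mul] at h1
  obtain ⟨k, hk⟩ := hp'
  have h2 := Nat.eq_one_of_dvd_coprimes (Nat.Coprime.pow_right k ha)
    (orderOf_dvd_of_pow_eq_one h1) (orderOf_dvd_of_pow_eq_one hk)
  exact (QuotientGroup.eq_one_iff _).1 (orderOf_eq_one_iff.1 h2)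

end CfsgLib.FusionLayer
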