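/-
The extension condition of a normal subsystem propagates from its top subgroup to all of its
centric subgroups: every automorphism in the subsystem of a centric subgroup `U` extends to
`U C_S(U)` so as to act trivially on `C_S(U)` modulo `Z(U)`.
-/
import Cfsg.Agent.FusionLayer.Util
import Cfsg.Agent.Fusion.CentralizerSubsystem
import Cfsg.Agent.Fusion.Centric
import Cfsg.Agent.Fusion.Invariant
import Cfsg.Agent.Fusion.NormalSubgroup
import Cfsg.Agent.Fusion.SaturationCriterion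
import Cfsg.Agent.FusionFactor.Lift

set_option autoImplicit false

namespace CfsgLib.FusionLayer

open Cfsg Cfsg.FusionSystem CfsgLib.Fusion

variable {Ω : Type*} [Group Ω] {S T : Subgroup Ω} {F : FusionSystem S} {E : FusionSystem T}
  {p : ℕ}

/-- `a` extends to `U C_S(U)` acting trivially on `C_S(U)` modulo `Z(U)`. -/
def TrivialExt (F : FusionSystem S) (U : Subgroup Ω) (a : MulAut U) : Prop :=
  ∃ β ∈ F.autGroup (U ⊔ centralizerIn S U),
    (∀ x : U, ((β (Subgroup.inclusion le_sup_left x) : ↥(U ⊔ centralizerIn S U)) : Ω) =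
      ((a x : U) : Ω)) ∧
    ∀ c : ↥(U ⊔ centralizerIn S U), (c : Ω) ∈ centralizerIn S U →
      (c : Ω)⁻¹ * ((β c : ↥(U ⊔ centralizerIn S U)) : Ω) ∈ U ⊓ Subgroup.centralizer (U : Set Ω)

theorem trivialExt_one (U : Subgroup Ω) : TrivialExt F U 1 :=
  ⟨1, one_mem _, fun _ => rfl, fun c _ => by
    show (c : Ω)⁻¹ * (c : Ω) ∈ _
    rw [inv_mul_cancel]
    exact one_mem _⟩

theorem TrivialExt.mul {U : Subgroup Ω} (hUS : U ≤ S) {a b : MulAut U} (ha : TrivialExt F U a)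
    (hb : TrivialExt F U b) : TrivialExt F U (a * b) := by
  obtain ⟨β, hβ, hβ1, hβ2⟩ := ha
  obtain ⟨γ, hγ, hγ1, hγ2⟩ := hb
  refine ⟨β * γ, mul_mem hβ hγ, fun x => ?_, fun c hc => ?_⟩
  · show (β (γ _) : Ω) = (a (b x) : Ω)
    rw [← hβ1, show γ (Subgroup.inclusion le_sup_left x) = Subgroup.inclusion le_sup_left (b x)
      from Subtype.ext (hγ1 x)]
  · have hz := hγ2 c hc
    let z : ↥(U ⊔ centralizerIn S U) := c⁻¹ * γ c
    have hzT : (z : Ω) ∈ U := hz.1
    have hzC : (z : Ω) ∈ centralizerIn S U := ⟨hUS hzT, hz.2⟩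
    show (c : Ω)⁻¹ * (β (γ c) : Ω) ∈ _
    rw [show γ c = c * z from (mul_inv_cancel_left c _).symm, map_mul, Subgroup.coe_mul,
      ← mul_assoc]
    refine mul_mem (hβ2 c hc) ⟨?_, ?_⟩
    · rw [show z = Subgroup.inclusion (le_sup_left : U ≤ U ⊔ centralizerIn S U) ⟨(z : Ω), hzT⟩
        from Subtype.ext rfl, hβ1]
      exact Subtype.mem _
    · have e : (β z : Ω) = (z : Ω) * ((z : Ω)⁻¹ * (β z : Ω)) := (mul_inv_cancel_left _ _).symm
      rw [e]
      exact mul_mem hzC.2 (hβ2 z hzC).2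

theorem TrivialExt.pow {U : Subgroup Ω} (hUS : U ≤ S) {a : MulAut U} (ha : TrivialExt F U a)
    (n : ℕ) : TrivialExt F U (a ^ n) := by
  induction n with
  | zero => rw [pow_zero]; exact trivialExt_one U
  | succ n ih => rw [pow_succ]; exact ih.mul hUS ha

/-- The automorphisms with a trivial extension form a subgroup. -/
def trivialExtGroup [Finite S] (F : FusionSystem S) {U : Subgroup Ω} (hUS : U ≤ S) :
    Subgroup (MulAut U) where
  carrier := {a | TrivialExt F U a}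
  one_mem' := trivialExt_one U
  mul_mem' := TrivialExt.mul hUS
  inv_mem' := fun {a} ha => by
    have := finite_of_le hUS
    have : Finite (MulAut U) := Finite.of_injective (fun f : MulAut U => (f : U → U))
      DFunLike.coe_injective
    have e : a⁻¹ = a ^ (orderOf a - 1) := inv_eq_of_mul_eq_one_right (by
      rw [← pow_succ', Nat.sub_add_cancel (orderOf_pos a), pow_orderOf_eq_one])
    show TrivialExt F U a⁻¹
    rw [e]
    exact TrivialExt.pow hUS ha _

/-- An automorphism of a receptive subgroup extends to its join with its centralizer. -/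
theorem exists_ext_centralizer [Finite S] {U : Subgroup Ω} (hU : F.IsReceptive U) {g : MulAut U}
    (hg : g ∈ F.autGroup U) :
    ∃ h ∈ F.autGroup (U ⊔ centralizerIn S U),
      (∀ x : U, (h (Subgroup.inclusion le_sup_left x) : Ω) = (g x : Ω)) ∧
      ∀ c : ↥(U ⊔ centralizerIn S U), (c : Ω) ∈ centralizerIn S U →
        (h c : Ω) ∈ centralizerIn S U := by
  have hgI := (mem_autGroup_iff hU.1).1 hg
  have hW : U ⊔ centralizerIn S U ≤ S := sup_le hU.1 (centralizerIn_le S U)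
  have := finite_of_le hW
  obtain ⟨ψ, hψ, hψv⟩ := exists_extension (T := U ⊔ centralizerIn S U) hU hgI
    (sup_le (le_extender hU.1 fun x => hU.1 (g x).2) (centralizerIn_le_extender _))
  have hC : ∀ c : ↥(U ⊔ centralizerIn S U), (c : Ω) ∈ centralizerIn S U →
      ψ c ∈ centralizerIn S U := by
    intro c hc
    refine mem_centralizerIn'.2 ⟨apply_mem hψ c, fun x hx => ?_⟩
    obtain ⟨y, hy⟩ := g.surjective ⟨x, hx⟩
    have h1 := hψv y (Subgroup.mem_sup_left y.2)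
    rw [hy] at h1
    rw [← show ψ ⟨(y : Ω), Subgroup.mem_sup_left y.2⟩ = x from h1, ← map_inv, ← map_mul, ← map_mul]
    refine congrArg ψ (Subtype.ext ?_)
    exact (mem_centralizerIn'.1 hc).2 y y.2
  have hr : ψ.range = U ⊔ centralizerIn S U := by
    refine Subgroup.eq_of_le_of_card_ge ?_ ?_
    · rw [← imgHom_self, imgHom_sup ψ le_sup_left le_sup_right]
      refine sup_le_sup ?_ ?_
      · rintro _ ⟨x, hx, rfl⟩
        rw [hψv ⟨x, hx⟩ x.2]
        exact (g _).2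
      · rintro _ ⟨x, hx, rfl⟩
        exact hC x hx
    · rw [← imgHom_self, card_imgHom (F.injective_of_mem hψ) le_rfl]
  obtain ⟨h, hh, hhv⟩ := exists_iso hψ hr
  exact ⟨h, hh.mem_autGroup, fun x => by rw [hhv]; exact hψv x _,
    fun c hc => by rw [hhv]; exact hC c hc⟩

/-- An automorphism of `N C_S(N)` of `p`-power order fixing the fully centralized `N` pointwise is
conjugation by an element of `C_S(N)`. -/
theorem inner_of_fix [Finite S] [Fact p.Prime] (hS : IsPGroup p S) (hF : F.IsSaturated p)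
    {N : Subgroup Ω} (hN : F.IsFullyCentralized N) {m : MulAut ↥(N ⊔ centralizerIn S N)}
    (hm : m ∈ F.autGroup (N ⊔ centralizerIn S N)) {k : ℕ} (hk : m ^ p ^ k = 1)
    (hfix : ∀ x : ↥(N ⊔ centralizerIn S N), (x : Ω) ∈ N → m x = x) :
    ∃ y ∈ centralizerIn S N, ∀ x : ↥(N ⊔ centralizerIn S N),
      (m x : Ω) = y * (x : Ω) * y⁻¹ := by
  have hVS : N ⊔ centralizerIn S N ≤ S := sup_le hN.1 (centralizerIn_le S N)
  have := finite_of_le hVS
  obtain ⟨B, hVB, hB⟩ := exists_fullyNormalized (F := F) hVS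
  obtain ⟨e, he⟩ := isConj_iff.1 hVB
  obtain ⟨γ, hγ, hγc⟩ := exists_conj_autInducedBy (automized_receptive hS hF hB).1
    (X := Subgroup.zpowers (MulAut.congr e m))
    (Subgroup.zpowers_le.2 (congr_mem_autGroup he hm))
    (isPGroup_zpowers_of_pow_eq_one (k := k) (by rw [← map_pow, hk, map_one]))
  have he' : IsIso F (e.trans γ) := he.trans ((mem_autGroup_iff hB.1).1 hγ)
  have hc : MulAut.congr (e.trans γ) m ∈ autInducedBy S B := by
    rw [congr_trans, congr_self_eq]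
    exact hγc _ (Subgroup.mem_zpowers _)
  generalize e.trans γ = f at he' hc
  obtain ⟨s, hsS, -, hs⟩ := mem_autInducedBy_iff.1 hc
  obtain ⟨N', hN'def⟩ : ∃ N', N' = imgHom (B.subtype.comp f.toMonoidHom) N := ⟨_, rfl⟩
  have hconj : F.IsConj N N' := hN'def ▸ isConj_restrict he' le_sup_left
  have hsN : s ∈ centralizerIn S N' := by
    refine mem_centralizerIn'.2 ⟨hsS, ?_⟩
    rw [hN'def]
    rintro _ ⟨x, hx, rfl⟩
    have := hs (f x)
    rw [congr_apply, hfix x hx] at this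
    exact this.symm
  have := finite_of_le (centralizerIn_le S N')
  have := finite_of_le (centralizerIn_le S N)
  have := finite_of_le (le_of_isConj_right hconj)
  let g : centralizerIn S N → centralizerIn S N' := fun c =>
    ⟨(f ⟨c, Subgroup.mem_sup_right c.2⟩ : Ω), mem_centralizerIn'.2
      ⟨hB.1 (f ⟨c, Subgroup.mem_sup_right c.2⟩).2, by
        rw [hN'def]
        rintro _ ⟨x, hx, rfl⟩
        show (f _ : Ω) * (f x : Ω) * (f _ : Ω)⁻¹ = (f x : Ω)
        rw [← Subgroup.coe_inv, ← Subgroup.coe_mul, ← Subgroup.coe_mul, ← map_inv, ← map_mul,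
          ← map_mul]
        exact congrArg (fun z => (f z : Ω)) (Subtype.ext ((mem_centralizerIn'.1 c.2).2 x hx))⟩⟩
  have hg : Function.Injective g := fun a b h => by
    have h1 := f.injective (Subtype.ext (congrArg Subtype.val h :))
    exact Subtype.ext (congrArg Subtype.val h1 :)
  obtain ⟨y, hy⟩ := ((Nat.bijective_iff_injective_and_card _).2
    ⟨hg, le_antisymm (Nat.card_le_card_of_injective g hg) (hN.2 N' hconj)⟩).2 ⟨s, hsN⟩
  have hys : (f ⟨y, Subgroup.mem_sup_right y.2⟩ : Ω) = s := congrArg Subtype.val hy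
  refine ⟨y, y.2, fun x => ?_⟩
  have h1 : f (m x) = f (⟨y, Subgroup.mem_sup_right y.2⟩ * x *
      (⟨y, Subgroup.mem_sup_right y.2⟩ : ↥(N ⊔ centralizerIn S N))⁻¹) := by
    refine Subtype.ext ?_
    rw [← congr_apply, hs, ← hys]
    simp
  exact congrArg Subtype.val (f.injective h1)

/-- A subgroup conjugate in the big system to a centric subgroup of a subsystem satisfying the
Frattini condition is centric in the subsystem. -/
theorem isCentric_of_isConj_big (hinv : E.IsInvariantIn F) {Q Q' : Subgroup Ω}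
    (hQ : E.IsCentric Q) (hQ' : Q' ≤ T) (hconj : F.IsConj Q Q') : E.IsCentric Q' := by
  refine ⟨hQ', fun R hR => ?_⟩
  obtain ⟨χ, hχ, hχr⟩ := hR
  obtain ⟨φ, hφ, hφr⟩ := isConj_trans hconj ⟨χ, hinv.1 Q' hχ, hχr⟩
  obtain ⟨α, hα, φ₀, hφ₀, hv⟩ := hinv.2.2.2 Q hQ.1 φ hφ
  rintro c ⟨hcT, hc⟩
  obtain ⟨c₀, hc₀⟩ := α.surjective ⟨c, hcT⟩
  have hmem : (c₀ : Ω) ∈ centralizerIn T φ₀.range := by
    refine mem_centralizerIn'.2 ⟨c₀.2, ?_⟩
    rintro _ ⟨x, rfl⟩
    have h1 : c₀ * ⟨φ₀ x, apply_mem hφ₀ x⟩ * c₀⁻¹ = ⟨φ₀ x, apply_mem hφ₀ x⟩ := by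
      refine α.injective (Subtype.ext ?_)
      rw [map_mul, map_mul, map_inv, hc₀, Subgroup.coe_mul, Subgroup.coe_mul, InvMemClass.coe_inv,
        ← hv x (apply_mem hφ₀ x)]
      show c * φ x * c⁻¹ = φ x
      rw [← Subgroup.mem_centralizer_iff.1 hc (φ x) (hφr ▸ ⟨x, rfl⟩), mul_inv_cancel_right]
    exact congrArg Subtype.val h1
  obtain ⟨x, hx⟩ := hQ.2 φ₀.range ⟨φ₀, hφ₀, rfl⟩ hmem
  rw [← hφr]
  refine ⟨x, ?_⟩
  rw [hv x (apply_mem hφ₀ x), show (⟨φ₀ x, apply_mem hφ₀ x⟩ : T) = c₀ from Subtype.ext hx, hc₀]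

/-- A subgroup of a strongly closed subgroup fully normalized in the big system is fully normalized
in a subsystem over the strongly closed subgroup. -/
theorem isFullyNormalized_of_big [Finite S] [Fact p.Prime] (hS : IsPGroup p S)
    (hF : F.IsSaturated p) (hEF : E.IsSubsystemOf F) (hT : F.StronglyClosed T) {U : Subgroup Ω}
    (hU : U ≤ T) (hUF : F.IsFullyNormalized U) : E.IsFullyNormalized U := by
  refine ⟨hU, fun R hR => ?_⟩
  obtain ⟨φ, hφ, hr⟩ := hR
  obtain ⟨hUa, hUr⟩ := automized_receptive hS hF hUF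
  obtain ⟨χ, hχ, hχN, -⟩ := exists_map_normalizerIn hS hUa hUr
    (isConj_symm ⟨φ, hEF U hφ, hr⟩)
  have hle : normalizerIn T R ≤ normalizerIn S R := inf_le_inf_right _ hT.1
  have := finite_of_le (normalizerIn_le T U |>.trans hT.1)
  refine Nat.card_le_card_of_injective (fun x : normalizerIn T R =>
    (⟨χ ⟨x, hle x.2⟩, stronglyClosed_apply hT hχ x.2.1, (hχN _).2⟩ : normalizerIn T U))
    fun a b h => ?_
  exact Subtype.ext (congrArg Subtype.val
    (F.injective_of_mem hχ (congrArg Subtype.val h : χ _ = χ _)) :)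

/-- Representatives `U'` of a class with `U'` and `N_T(U')` fully normalized. -/
theorem exists_nice_rep [Finite S] [Fact p.Prime] (hS : IsPGroup p S) (hF : F.IsSaturated p)
    (hT : F.StronglyClosed T) {U : Subgroup Ω} (hU : U ≤ T) :
    ∃ U', U' ≤ T ∧ F.IsFullyNormalized U' ∧ F.IsFullyNormalized (normalizerIn T U') ∧
      ∃ ψ ∈ F.Hom (normalizerIn S U), (∀ x, ψ x ∈ normalizerIn S U') ∧ imgHom ψ U = U' := by
  obtain ⟨U₁, hc₁, hU₁⟩ := exists_fullyNormalized (F := F) (hU.trans hT.1)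
  obtain ⟨hU₁a, hU₁r⟩ := automized_receptive hS hF hU₁
  obtain ⟨ψ₁, hψ₁, hψ₁N, hψ₁U⟩ := exists_map_normalizerIn hS hU₁a hU₁r hc₁
  have hU₁T : U₁ ≤ T := by
    rw [← hψ₁U]
    rintro _ ⟨x, hx, rfl⟩
    exact stronglyClosed_apply hT hψ₁ (hU hx)
  have hNS : normalizerIn T U₁ ≤ S := (normalizerIn_le T U₁).trans hT.1
  obtain ⟨N', hcN, hN'⟩ := exists_fullyNormalized (F := F) hNS
  obtain ⟨hN'a, hN'r⟩ := automized_receptive hS hF hN'
  obtain ⟨ψ₂, hψ₂, -, hψ₂U⟩ := exists_map_normalizerIn hS hN'a hN'r hcN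
  have hle : normalizerIn S U₁ ≤ normalizerIn S (normalizerIn T U₁) := by
    rintro s hs
    refine ⟨hs.1, ?_⟩
    have := finite_of_le hNS
    refine SatCriterion.mem_normalizer_of_finite fun n hn => ?_
    exact ⟨FusionFactor.conj_mem_of_stronglyClosed hT hs.1 hn.1,
      mul_mem (mul_mem hs.2 hn.2) (Subgroup.inv_mem _ hs.2)⟩
  have hU₁N : U₁ ≤ normalizerIn S U₁ := le_normalizerIn hU₁.1
  have hψ := restrict_mem hψ₂ hle
  obtain ⟨U₂, hU₂def⟩ : ∃ U₂, U₂ = imgHom (restrictHom ψ₂ hle) U₁ := ⟨_, rfl⟩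
  have hmap : ∀ x, restrictHom ψ₂ hle x ∈ normalizerIn S U₂ := fun x =>
    ⟨apply_mem hψ x, hU₂def ▸ map_mem_normalizer hU₁N (g := x) x.2.2⟩
  have hU₂T : U₂ ≤ T := by
    rw [hU₂def]
    rintro _ ⟨x, hx, rfl⟩
    exact stronglyClosed_apply hT hψ (hU₁T hx)
  have hc₂ : F.IsConj U₁ U₂ := hU₂def ▸ isConj_restrict hψ hU₁N
  have hcard := card_normalizerIn_le hψ hmap
  refine ⟨U₂, hU₂T, ⟨hU₂T.trans hT.1,
    fun R hR => (hU₁.2 R (isConj_trans hc₂ hR)).trans hcard⟩, ?_, ?_⟩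
  · suffices h : normalizerIn T U₂ = N' from h ▸ hN'
    rw [← hψ₂U]
    refine le_antisymm (fun y hy => ?_) ?_
    · have := finite_of_le (normalizerIn_le S U₂)
      have := finite_of_le (normalizerIn_le S U₁)
      obtain ⟨x, hx⟩ := ((Nat.bijective_iff_injective_and_card
        (fun x => (⟨_, hmap x⟩ : normalizerIn S U₂))).2
        ⟨fun a b h => F.injective_of_mem hψ (congrArg Subtype.val h), le_antisymm hcard
          (hU₁.2 U₂ hc₂)⟩).2 ⟨y, inf_le_inf_right _ hT.1 hy⟩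
      have hxy : restrictHom ψ₂ hle x = y := congrArg Subtype.val hx
      refine ⟨Subgroup.inclusion hle x, ⟨?_, x.2.2⟩, hxy⟩
      exact (stronglyClosed_apply_iff hT hψ).1 (hxy ▸ hy.1)
    · rintro _ ⟨x, hx, rfl⟩
      refine ⟨stronglyClosed_apply hT hψ₂ hx.1, ?_⟩
      exact (hmap ⟨x, hT.1 hx.1, hx.2⟩).2
  · refine ⟨_, F.comp_mem hψ₁ hψ hψ₁N, fun x => hmap _, ?_⟩
    rw [SatCriterion.imgHom_comp, hψ₁U, hU₂def]

/-- A trivial extension is inherited along a map carrying `N_S(U)` into `N_S(U')`. -/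
theorem TrivialExt.transport [Finite S] {U U' : Subgroup Ω} (hUS : U ≤ S) {ψ : normalizerIn S U →* Ω}
    (hψ : ψ ∈ F.Hom (normalizerIn S U)) (hψU : imgHom ψ U = U') {e : U ≃* U'}
    (hev : ∀ x : U, (e x : Ω) = ψ ⟨x, le_normalizerIn hUS x.2⟩) {a : MulAut U}
    (h : TrivialExt F U' (MulAut.congr e a)) : TrivialExt F U a := by
  obtain ⟨β', hβ', hβ'1, hβ'2⟩ := h
  have hWN : U ⊔ centralizerIn S U ≤ normalizerIn S U :=
    sup_le (le_normalizerIn hUS) (centralizerIn_le_normalizerIn S U)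
  have hWS := hWN.trans (normalizerIn_le S U)
  have := finite_of_le hWS
  have hCim : ∀ c : normalizerIn S U, (c : Ω) ∈ centralizerIn S U →
      ψ c ∈ centralizerIn S U' := by
    intro c hc
    refine mem_centralizerIn'.2 ⟨apply_mem hψ c, ?_⟩
    rw [← hψU]
    rintro _ ⟨x, hx, rfl⟩
    rw [← map_inv, ← map_mul, ← map_mul]
    exact congrArg ψ (Subtype.ext ((mem_centralizerIn'.1 hc).2 x hx))
  obtain ⟨f, hf, hfv⟩ := exists_iso_range (restrict_mem hψ hWN)
  have hW₁ : (restrictHom ψ hWN).range ≤ U' ⊔ centralizerIn S U' := by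
    rw [range_restrictHom, imgHom_sup ψ (le_normalizerIn hUS) (centralizerIn_le_normalizerIn S U)]
    refine sup_le (hψU.le.trans le_sup_left) (le_sup_of_le_right ?_)
    rintro _ ⟨c, hc, rfl⟩
    exact hCim c hc
  have hU'W : U' ≤ (restrictHom ψ hWN).range := by
    rw [range_restrictHom, ← hψU]
    exact imgHom_mono ψ le_sup_left
  have hW'S : U' ⊔ centralizerIn S U' ≤ S :=
    sup_le (hψU ▸ imgHom_le hψ U) (centralizerIn_le S U')
  have key : (restrictHom ψ hWN).range ≤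
      ((((restrictHom ψ hWN).range).subgroupOf (U' ⊔ centralizerIn S U')).comap
        β'.toMonoidHom).map (Subgroup.subtype _) := by
    rw [range_restrictHom, imgHom_sup ψ (le_normalizerIn hUS) (centralizerIn_le_normalizerIn S U)]
    refine sup_le ?_ ?_
    · intro y hy
      rw [hψU] at hy
      refine ⟨⟨y, Subgroup.mem_sup_left hy⟩, ?_, rfl⟩
      refine Subgroup.mem_comap.2 (Subgroup.mem_subgroupOf.2 ?_)
      simp only [MulEquiv.coe_toMonoidHom]
      rw [show (⟨y, Subgroup.mem_sup_left hy⟩ : ↥(U' ⊔ centralizerIn S U')) =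
        Subgroup.inclusion le_sup_left ⟨y, hy⟩ from rfl, hβ'1]
      exact Subgroup.mem_sup_left (hψU.ge (Subtype.mem _))
    · rintro _ ⟨c, hc, rfl⟩
      refine ⟨⟨ψ c, Subgroup.mem_sup_right (hCim c hc)⟩, ?_, rfl⟩
      refine Subgroup.mem_comap.2 (Subgroup.mem_subgroupOf.2 ?_)
      simp only [MulEquiv.coe_toMonoidHom]
      rw [← mul_inv_cancel_left (ψ c) (β' ⟨ψ c, Subgroup.mem_sup_right (hCim c hc)⟩ : Ω)]
      exact mul_mem (Subgroup.mem_sup_right ⟨c, hc, rfl⟩)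
        (Subgroup.mem_sup_left (hψU.ge (hβ'2 ⟨ψ c, Subgroup.mem_sup_right (hCim c hc)⟩
          (hCim c hc)).1))
  obtain ⟨β₁, hβ₁, hβ₁v⟩ := exists_restrict_aut hW₁ hW'S hβ' fun x hx => by
    obtain ⟨y, hy, hyx⟩ := key hx
    obtain rfl : y = x := Subtype.ext hyx
    exact hy
  have hfU : ∀ x : U, (f (Subgroup.inclusion le_sup_left x) : Ω) = (e x : Ω) := fun x => by
    rw [hfv, hev]; rfl
  refine ⟨MulAut.congr f.symm β₁, congr_mem_autGroup hf.symm hβ₁, fun x => ?_, fun c hc => ?_⟩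
  · show (f.symm (β₁ (f (Subgroup.inclusion le_sup_left x))) : Ω) = _
    have h1 : β₁ (f (Subgroup.inclusion le_sup_left x)) =
        f (Subgroup.inclusion le_sup_left (a x)) := by
      refine Subtype.ext ?_
      rw [hβ₁v, hfU, show Subgroup.inclusion hW₁ (f (Subgroup.inclusion le_sup_left x)) =
        Subgroup.inclusion le_sup_left (e x) from Subtype.ext (hfU x), hβ'1, congr_apply]
    rw [h1, MulEquiv.symm_apply_apply]
    rfl
  · show (c : Ω)⁻¹ * (f.symm (β₁ (f c)) : Ω) ∈ _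
    have hd := hβ'2 (Subgroup.inclusion hW₁ (f c)) (by
      show (f c : Ω) ∈ _
      rw [hfv]
      exact hCim _ hc)
    rw [← hβ₁v] at hd
    obtain ⟨u, hu⟩ := e.surjective ⟨_, hd.1⟩
    have h2 : β₁ (f c) = f (c * Subgroup.inclusion le_sup_left u) := by
      refine Subtype.ext ?_
      rw [map_mul, Subgroup.coe_mul, hfU, hu]
      exact (mul_inv_cancel_left _ _).symm
    rw [h2, MulEquiv.symm_apply_apply, Subgroup.coe_mul, inv_mul_cancel_left]
    refine ⟨u.2, Subgroup.mem_centralizer_iff.2 fun v hv => ?_⟩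
    have h3 := Subgroup.mem_centralizer_iff.1 hd.2 (e ⟨v, hv⟩) (e ⟨v, hv⟩).2
    rw [show (Subgroup.inclusion hW₁ (f c) : Ω)⁻¹ * (β₁ (f c) : Ω) = (e u : Ω) from
      (congrArg Subtype.val hu).symm] at h3
    exact congrArg Subtype.val (e.injective (Subtype.ext (by rw [map_mul, map_mul]; exact h3) :
      e (⟨v, hv⟩ * u) = e (u * ⟨v, hv⟩)) : (⟨v, hv⟩ * u : U) = u * ⟨v, hv⟩)

theorem trivialExt_normal_step [Finite S] [Fact p.Prime] (hS : IsPGroup p S)
    (hF : F.IsSaturated p) (hE : E.IsSaturated p) (hinv : E.IsInvariantIn F)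
    {U : Subgroup Ω} (hU : E.IsCentric U) (hUF : F.IsFullyNormalized U)
    {N : Subgroup Ω} (hNdef : N = normalizerIn T U) (hNF : F.IsFullyNormalized N) (hlt : U < N)
    (ih : ∀ f ∈ E.autGroup N, TrivialExt F N f)
    {a : MulAut U} (ha : a ∈ E.autGroup U) (hap : (orderOf a).Coprime p)
    (hn : ∀ β ∈ autInducedBy T U, a * β * a⁻¹ ∈ autInducedBy T U) : TrivialExt F U a := by
  have hT := hinv.2.1
  have hTS := hT.1
  have hUT := hU.1
  have hUS : U ≤ S := hUT.trans hTS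
  have hNT : N ≤ T := hNdef ▸ normalizerIn_le T U
  have hNS : N ≤ S := hNT.trans hTS
  have hTp : IsPGroup p T := hS.to_le hTS
  have := finite_of_le hTS
  have := finite_of_le hUS
  have := finite_of_le hNS
  have hUc : E.IsFullyNormalized U := isFullyNormalized_of_big hS hF hinv.1 hT hUT hUF
  obtain ⟨-, hUr⟩ := automized_receptive hTp hE hUc
  have haI := (mem_autGroup_iff hUT).1 ha
  -- the extension inside `E` to the normalizer
  obtain ⟨χ, hχ, hχv⟩ := exists_extension (T := N) hUr haI fun g hg => by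
    rw [hNdef] at hg
    refine mem_extender_of_congr hg (α := U.normalizerMonoidHom ⟨g, hg.2⟩) (fun _ => rfl) ?_
    exact congr_self_eq a _ ▸ hn _ (mem_autInducedBy_iff.2 ⟨g, hg.1, hg.2, fun _ => rfl⟩)
  have himg : imgHom χ U = U := imgHom_eq_of_agree hlt.le hχv
  obtain ⟨f₀, hf₀, hf₀v⟩ := exists_iso hχ (Q := N) (by
    refine Subgroup.eq_of_le_of_card_ge ?_ (by
      rw [← imgHom_self, card_imgHom (E.injective_of_mem hχ) le_rfl])
    rintro _ ⟨x, rfl⟩
    refine hNdef.ge (show χ x ∈ normalizerIn T U from ⟨apply_mem hχ x, ?_⟩)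
    have := map_mem_normalizer (ψ := χ) hlt.le (g := x) (hNdef.le x.2).2
    rwa [himg] at this)
  have hf₀a : ∀ x : U, (a x : Ω) = (f₀ (Subgroup.inclusion hlt.le x) : Ω) := fun x => by
    rw [hf₀v]; exact (hχv x (hlt.le x.2)).symm
  have : Finite (MulAut N) := Finite.of_injective (fun f : MulAut N => (f : N → N))
    DFunLike.coe_injective
  obtain ⟨k, hk, hak⟩ := exists_coprime_pow hap (f₀ : MulAut N)
  obtain ⟨f, hfdef⟩ : ∃ f : MulAut N, f = (f₀ : MulAut N) ^ k := ⟨_, rfl⟩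
  have hf : f ∈ E.autGroup N := hfdef ▸ pow_mem hf₀.mem_autGroup k
  have hfp : (orderOf f).Coprime p := hfdef ▸ hk
  have hfa : ∀ x : U, (a x : Ω) = (f (Subgroup.inclusion hlt.le x) : Ω) := fun x => by
    have := pow_agree hlt.le hf₀a k x
    rw [hak] at this
    rw [hfdef]; exact this
  -- the extension to `V = N C_S(N)`
  obtain ⟨V, hVdef⟩ : ∃ V, V = N ⊔ centralizerIn S N := ⟨_, rfl⟩
  have hNV : N ≤ V := hVdef ▸ le_sup_left
  have hCNV : centralizerIn S N ≤ V := hVdef ▸ le_sup_right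
  have hVS : V ≤ S := hVdef ▸ sup_le hNS (centralizerIn_le S N)
  have := finite_of_le hVS
  have : Finite (MulAut V) := Finite.of_injective (fun f : MulAut V => (f : V → V))
    DFunLike.coe_injective
  obtain ⟨b, hb, hbp, hb1, hb2, hbi⟩ : ∃ b ∈ F.autGroup V, (orderOf b).Coprime p ∧
      (∀ x : N, (b (Subgroup.inclusion hNV x) : Ω) = (f x : Ω)) ∧
      (∀ v : V, (v : Ω) ∈ centralizerIn S N →
        (v : Ω)⁻¹ * (b v : Ω) ∈ N ⊓ Subgroup.centralizer (N : Set Ω)) ∧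
      (∀ v : V, (v : Ω) ∈ centralizerIn S N →
        (v : Ω)⁻¹ * (b⁻¹ v : Ω) ∈ N ⊓ Subgroup.centralizer (N : Set Ω)) := by
    subst hVdef
    obtain ⟨b₀, hb₀, hb₀1, hb₀2⟩ := ih f hf
    obtain ⟨k₂, hk₂, hfk₂⟩ := exists_coprime_pow hfp (b₀ : MulAut ↥(N ⊔ centralizerIn S N))
    have hpow : ∀ n : ℕ, ∀ v : ↥(N ⊔ centralizerIn S N), (v : Ω) ∈ centralizerIn S N →
        (v : Ω)⁻¹ * ((b₀ ^ n) v : Ω) ∈ N ⊓ Subgroup.centralizer (N : Set Ω) := by
      intro n
      induction n with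
      | zero => intro v _; show (v : Ω)⁻¹ * (v : Ω) ∈ _; rw [inv_mul_cancel]; exact one_mem _
      | succ n ihn =>
        intro v hv
        have h1 := hb₀2 v hv
        have h2 : (b₀ v : Ω) ∈ centralizerIn S N := by
          rw [← mul_inv_cancel_left (v : Ω) (b₀ v : Ω)]
          exact mul_mem hv ⟨hNS h1.1, h1.2⟩
        rw [pow_succ, MulAut.mul_apply, ← mul_inv_cancel_left (b₀ v : Ω) (((b₀ ^ n) (b₀ v) : _) : Ω),
          ← mul_assoc]
        exact mul_mem h1 (ihn _ h2)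
    refine ⟨b₀ ^ k₂, pow_mem hb₀ k₂, hk₂, fun x => ?_, hpow k₂, fun v hv => ?_⟩
    · have := pow_agree le_sup_left (fun y => (hb₀1 y).symm) k₂ x
      rw [hfk₂] at this
      exact this.symm
    · rw [show (b₀ ^ k₂ : MulAut ↥(N ⊔ centralizerIn S N))⁻¹ =
        b₀ ^ (k₂ * (orderOf b₀ - 1)) from inv_eq_of_mul_eq_one_right (by
          rw [← pow_add, show k₂ + k₂ * (orderOf b₀ - 1) = k₂ * ((orderOf b₀ - 1) + 1) by ring,
            Nat.sub_add_cancel (orderOf_pos b₀), mul_comm, pow_mul, pow_orderOf_eq_one, one_pow])]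
      exact hpow _ v hv
  have hNc : E.IsCentric N := isCentric_of_le hU hlt.le hNT
  have hNfc := fullyCentralized_of_normalized hS hF hNF
  have hVc : F.IsCentric V := by
    refine ⟨hVS, fun V' hV' => ?_⟩
    obtain ⟨e, he⟩ := isConj_iff.1 hV'
    obtain ⟨N', hN'def⟩ : ∃ N', N' = imgHom (V'.subtype.comp e.toMonoidHom) N := ⟨_, rfl⟩
    have hconj : F.IsConj N N' := hN'def ▸ isConj_restrict he hNV
    have hN'V : N' ≤ V' := by
      rw [hN'def]; rintro _ ⟨x, -, rfl⟩; exact (e x).2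
    have hle : imgHom (V'.subtype.comp e.toMonoidHom) (centralizerIn S N) ≤ centralizerIn S N' := by
      rintro _ ⟨c, hc, rfl⟩
      refine mem_centralizerIn'.2 ⟨he.le_right (e c).2, ?_⟩
      rw [hN'def]
      rintro _ ⟨x, hx, rfl⟩
      simp only [← map_inv, ← map_mul]
      exact congrArg (fun z => (e z : Ω)) (Subtype.ext ((mem_centralizerIn'.1 hc).2 x hx))
    have := finite_of_le (centralizerIn_le S N')
    have heq := Subgroup.eq_of_le_of_card_ge hle ((hNfc.2 N' hconj).trans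
      (card_imgHom (F.injective_of_mem he) hCNV).ge)
    refine (centralizerIn_anti hN'V).trans ?_
    rw [← heq]
    rintro _ ⟨c, -, rfl⟩
    exact (e c).2
  -- the action of `C_S(U)`
  obtain ⟨C, hCdef⟩ : ∃ C, C = centralizerIn S U := ⟨_, rfl⟩
  have hCS : C ≤ S := hCdef ▸ centralizerIn_le S U
  have hCcomm : ∀ {c}, c ∈ C → ∀ u ∈ U, c * u * c⁻¹ = u := fun {c} hc u hu =>
    (mem_centralizerIn'.1 (hCdef ▸ hc)).2 u hu
  have hCN : C ≤ normalizerIn S N := fun c hc => ⟨hCS hc,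
    SatCriterion.mem_normalizer_of_finite fun n hn => by
      rw [hNdef] at hn ⊢
      exact ⟨FusionFactor.conj_mem_of_stronglyClosed hT (hCS hc) hn.1, mul_mem
        (mul_mem (centralizerIn_le_normalizerIn S U (hCdef ▸ hc)).2 hn.2)
        (Subgroup.inv_mem _ (centralizerIn_le_normalizerIn S U (hCdef ▸ hc)).2)⟩⟩
  have hCcent : ∀ c ∈ C, ∀ v ∈ centralizerIn S N, c * v * c⁻¹ ∈ centralizerIn S N := by
    intro c hc v hv
    refine mem_centralizerIn'.2 ⟨mul_mem (mul_mem (hCS hc) hv.1) (inv_mem (hCS hc)), fun n hn => ?_⟩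
    have h1 := (mem_centralizerIn'.1 hv).2 _ ((Subgroup.mem_normalizer_iff''.1 (hCN hc).2 n).1 hn)
    calc c * v * c⁻¹ * n * (c * v * c⁻¹)⁻¹ = c * (v * (c⁻¹ * n * c) * v⁻¹) * c⁻¹ := by group
      _ = n := by rw [h1]; group
  have hVel : ∀ x : V, ∃ n v : V, (n : Ω) ∈ N ∧ (v : Ω) ∈ centralizerIn S N ∧ x = n * v := by
    intro x
    obtain ⟨n, hn, v, hv, hx⟩ : ∃ n ∈ N, ∃ v ∈ centralizerIn S N, n * v = x := by
      have hx : (x : Ω) ∈ ((N ⊔ centralizerIn S N : Subgroup Ω) : Set Ω) := hVdef ▸ x.2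
      rw [Subgroup.coe_mul_of_right_le_normalizer_left _ _
        ((centralizerIn_le_normalizerIn S N).trans inf_le_right)] at hx
      exact hx
    exact ⟨⟨n, hNV hn⟩, ⟨v, hCNV hv⟩, hn, hv, Subtype.ext hx.symm⟩
  have hCV : ∀ c ∈ C, c ∈ Subgroup.normalizer (V : Set Ω) := by
    intro c hc
    refine SatCriterion.mem_normalizer_of_finite fun x hx => ?_
    obtain ⟨n, v, hn, hv, hnv⟩ := hVel ⟨x, hx⟩
    rw [show x = (n : Ω) * v from congrArg Subtype.val hnv,
      show c * ((n : Ω) * v) * c⁻¹ = c * n * c⁻¹ * (c * v * c⁻¹) by group]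
    exact mul_mem (hNV ((Subgroup.mem_normalizer_iff.1 (hCN hc).2 _).1 hn)) (hCNV (hCcent c hc _ hv))
  have hUN : ∀ z : Ω, z ∈ U → z ∈ V := fun z hz => hNV (hlt.le hz)
  have key : ∀ c ∈ C, ∃ z ∈ U ⊓ Subgroup.centralizer (U : Set Ω), ∃ y ∈ centralizerIn S N,
      ∀ x : V, ∀ h : c * (x : Ω) * c⁻¹ ∈ V,
        (b ⟨c * x * c⁻¹, h⟩ : Ω) = z * c * y * (b x : Ω) * (z * c * y)⁻¹ := by
    intro c hc
    let κN : MulAut N := N.normalizerMonoidHom ⟨c, (hCN hc).2⟩
    let κV : MulAut V := V.normalizerMonoidHom ⟨c, hCV c hc⟩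
    have hκN : κN ∈ F.autGroup N := autInducedBy_le_autGroup hNS
      (mem_autInducedBy_iff.2 ⟨c, hCS hc, (hCN hc).2, fun _ => rfl⟩)
    have hκNE : κN * f⁻¹ * κN⁻¹ ∈ E.autGroup N := by
      rw [← congr_self_eq]
      exact congr_mem_of_invariant (strongInvariant_of_invariant hinv) hNT hNT
        ((mem_autGroup_iff hNS).1 hκN) (inv_mem hf)
    have hk : f * κN * f⁻¹ * κN⁻¹ ∈ E.autGroup N := by
      rw [show f * κN * f⁻¹ * κN⁻¹ = f * (κN * f⁻¹ * κN⁻¹) by group]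
      exact mul_mem hf hκNE
    have hκfix : ∀ u : N, (u : Ω) ∈ U → κN u = u := fun u hu => Subtype.ext (hCcomm hc u hu)
    have hκfix' : ∀ u : N, (u : Ω) ∈ U → κN⁻¹ u = u := fun u hu => by
      conv_lhs => rw [← hκfix u hu]
      exact MulAut.inv_apply_self ..
    have hfix : ∀ u : N, (u : Ω) ∈ U → (f * κN * f⁻¹ * κN⁻¹ : MulAut N) u = u := by
      intro u hu
      obtain ⟨w, hw⟩ := a.surjective ⟨u, hu⟩
      have h1 : f (Subgroup.inclusion hlt.le w) = u := Subtype.ext ((hfa w).symm.trans (by rw [hw]))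
      show f (κN (f⁻¹ (κN⁻¹ u))) = u
      rw [hκfix' u hu, ← h1, MulAut.inv_apply_self, hκfix _ w.2]
    obtain ⟨z, hzU, hzC, hzv⟩ := exists_center_conj_of_agree hTp hE hlt.le hU
      (subtype_mem hNT) ((mem_autGroup_iff hNT).1 hk) fun x hx =>
        (congrArg Subtype.val (hfix x hx)).symm
    have hzV : (z : Ω) ∈ V := hNV z.2
    have hzN : (z : Ω) ∈ Subgroup.normalizer (V : Set Ω) := Subgroup.le_normalizer hzV
    let ζ : MulAut V := V.normalizerMonoidHom ⟨z, hzN⟩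
    let m : MulAut V := (ζ * κV)⁻¹ * (b * κV * b⁻¹)
    have hbN : ∀ x : N, b (Subgroup.inclusion hNV x) = Subgroup.inclusion hNV (f x) := fun x =>
      Subtype.ext (hb1 x)
    have hbN' : ∀ x : N, b⁻¹ (Subgroup.inclusion hNV x) = Subgroup.inclusion hNV (f⁻¹ x) := by
      intro x
      conv_lhs => rw [← show f (f⁻¹ x) = x from MulAut.apply_inv_self _ _ x, ← hbN]
      exact MulAut.inv_apply_self ..
    have hκVN : ∀ x : N, κV (Subgroup.inclusion hNV x) = Subgroup.inclusion hNV (κN x) := fun x =>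
      Subtype.ext rfl
    have hmN : ∀ x : V, (x : Ω) ∈ N → m x = x := by
      intro x hx
      obtain ⟨x', rfl⟩ : ∃ x' : N, Subgroup.inclusion hNV x' = x := ⟨⟨x, hx⟩, rfl⟩
      show (ζ * κV)⁻¹ (b (κV (b⁻¹ _))) = _
      rw [hbN', hκVN, hbN]
      have h1 : f (κN (f⁻¹ x')) = z * κN x' * z⁻¹ := by
        have h2 := hzv (κN x')
        refine Subtype.ext ?_
        have h3 : ((f * κN * f⁻¹ * κN⁻¹ : MulAut N) (κN x') : Ω) =
            ((z * κN x' * z⁻¹ : N) : Ω) := h2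
        rw [← h3]
        show _ = (f (κN (f⁻¹ (κN⁻¹ (κN x')))) : Ω)
        rw [MulAut.inv_apply_self]
      rw [h1, show Subgroup.inclusion hNV (z * κN x' * z⁻¹) =
        (ζ * κV) (Subgroup.inclusion hNV x') from Subtype.ext rfl]
      exact MulAut.inv_apply_self ..
    have hZ : ∀ {w : Ω}, w ∈ N ⊓ Subgroup.centralizer (N : Set Ω) → ∀ {g : Ω},
        g ∈ Subgroup.normalizer (N : Set Ω) →
        g * w * g⁻¹ ∈ N ⊓ Subgroup.centralizer (N : Set Ω) := fun {w} hw {g} hg =>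
      ⟨(Subgroup.mem_normalizer_iff.1 hg w).1 hw.1,
        Subgroup.mem_centralizer_iff.2 fun n hn => by
          have h1 := Subgroup.mem_centralizer_iff.1 hw.2 _
            ((Subgroup.mem_normalizer_iff''.1 hg n).1 hn)
          calc n * (g * w * g⁻¹) = g * (g⁻¹ * n * g * w) * g⁻¹ := by group
            _ = g * (w * (g⁻¹ * n * g)) * g⁻¹ := by rw [h1]
            _ = g * w * g⁻¹ * n := by group⟩
    have hdisp : ∀ v : V, (v : Ω) ∈ centralizerIn S N →
        ((v⁻¹ * m v : V) : Ω) ∈ N ⊓ Subgroup.centralizer (N : Set Ω) := by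
      intro v hv
      have h1 := hbi v hv
      let w₁ : V := v⁻¹ * b⁻¹ v
      have hw₁ : (w₁ : Ω) ∈ N ⊓ Subgroup.centralizer (N : Set Ω) := h1
      have hv' : ((κV v : V) : Ω) ∈ centralizerIn S N := hCcent c hc _ hv
      have hw₂ : ((b (κV w₁) : V) : Ω) ∈ N ⊓ Subgroup.centralizer (N : Set Ω) := by
        have h2 : ((κV w₁ : V) : Ω) ∈ N ⊓ Subgroup.centralizer (N : Set Ω) :=
          hZ hw₁ (hCN hc).2
        have h3 : ((b (κV w₁) : V) : Ω) =
            ((κV w₁ : V) : Ω) * (((κV w₁ : V) : Ω)⁻¹ * ((b (κV w₁) : V) : Ω)) :=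
          (mul_inv_cancel_left _ _).symm
        rw [h3]
        exact mul_mem h2 (hb2 _ ⟨hNS h2.1, h2.2⟩)
      let w₃ : V := (κV v)⁻¹ * b (κV v) * b (κV w₁)
      have hw₃ : (w₃ : Ω) ∈ N ⊓ Subgroup.centralizer (N : Set Ω) := mul_mem (hb2 _ hv') hw₂
      have h4 : b (κV (b⁻¹ v)) = κV v * w₃ := by
        rw [show b⁻¹ v = v * w₁ from (mul_inv_cancel_left _ _).symm, map_mul, map_mul]
        simp only [w₃, mul_assoc, mul_inv_cancel_left]
      have hzNm : (z : Ω)⁻¹ ∈ Subgroup.normalizer (N : Set Ω) :=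
        inv_mem (Subgroup.le_normalizer z.2)
      have hcN' : c⁻¹ ∈ Subgroup.normalizer (N : Set Ω) := inv_mem (hCN hc).2
      have h5 := hZ (hZ hw₃ hzNm) hcN'
      have hzcomm : (z : Ω)⁻¹ * (c * (v : Ω) * c⁻¹) * (z : Ω) = c * (v : Ω) * c⁻¹ := by
        have h6 := (mem_centralizerIn'.1 (hCcent c hc _ hv)).2 z z.2
        calc (z : Ω)⁻¹ * (c * (v : Ω) * c⁻¹) * (z : Ω) =
            (z : Ω)⁻¹ * (c * (v : Ω) * c⁻¹ * z * (c * (v : Ω) * c⁻¹)⁻¹) * (c * (v : Ω) * c⁻¹) := by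
              group
          _ = c * (v : Ω) * c⁻¹ := by rw [h6]; group
      convert h5 using 1
      show ((v⁻¹ * (κV⁻¹ (ζ⁻¹ (b (κV (b⁻¹ v)))))) : V).1 = _
      rw [h4]
      show (v : Ω)⁻¹ * (c⁻¹ * ((z : Ω)⁻¹ * (c * (v : Ω) * c⁻¹ * (w₃ : Ω)) * (z : Ω)⁻¹⁻¹) * c⁻¹⁻¹) = _
      simp only [inv_inv]
      calc (v : Ω)⁻¹ * (c⁻¹ * ((z : Ω)⁻¹ * (c * (v : Ω) * c⁻¹ * (w₃ : Ω)) * (z : Ω)) * c) =
          (v : Ω)⁻¹ * (c⁻¹ * ((z : Ω)⁻¹ * (c * (v : Ω) * c⁻¹) * (z : Ω)) *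
            ((z : Ω)⁻¹ * (w₃ : Ω) * (z : Ω)) * c) := by group
        _ = _ := by rw [hzcomm]; group
    obtain ⟨j, hj⟩ := (hS.to_le hNS).exists_card_eq
    have hallV : ∀ x : V, ((x⁻¹ * m x : V) : Ω) ∈ N := by
      intro x
      obtain ⟨n, v, hn, hv, rfl⟩ := hVel x
      rw [map_mul, hmN n hn, mul_inv_rev, mul_assoc, inv_mul_cancel_left]
      exact (hdisp v hv).1
    have hmpow : m ^ p ^ j = 1 := pow_eq_one_of_displacement (fun x => hmN _ (hallV x)) fun x => by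
      have h1 : (⟨_, hallV x⟩ : N) ^ Nat.card N = 1 := pow_card_eq_one'
      rw [hj] at h1
      exact Subtype.ext (congrArg Subtype.val h1 :)
    have hκV : κV ∈ F.autGroup V := autInducedBy_le_autGroup hVS
      (mem_autInducedBy_iff.2 ⟨c, hCS hc, hCV c hc, fun _ => rfl⟩)
    have hζ : ζ ∈ F.autGroup V := autInducedBy_le_autGroup hVS
      (mem_autInducedBy_iff.2 ⟨z, hVS hzV, hzN, fun _ => rfl⟩)
    have hm : m ∈ F.autGroup V :=
      mul_mem (inv_mem (mul_mem hζ hκV)) (mul_mem (mul_mem hb hκV) (inv_mem hb))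
    obtain ⟨y, hy, hyv⟩ : ∃ y ∈ centralizerIn S N, ∀ x : V, (m x : Ω) = y * (x : Ω) * y⁻¹ := by
      subst hVdef
      exact inner_of_fix hS hF hNfc hm hmpow hmN
    refine ⟨z, ⟨hzU, hzC⟩, y, hy, fun x h => ?_⟩
    have h1 : ((ζ * κV) (m (b x)) : V) = b (κV x) := by
      show (ζ * κV) ((ζ * κV)⁻¹ (b (κV (b⁻¹ (b x))))) = _
      rw [MulAut.inv_apply_self, MulAut.apply_inv_self]
    refine ((congrArg Subtype.val h1).symm).trans ?_
    show (z : Ω) * (c * (m (b x) : Ω) * c⁻¹) * (z : Ω)⁻¹ = _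
    rw [hyv]
    group
  -- the extension to `N C_S(U)`
  have hbI := (mem_autGroup_iff hVS).1 hb
  have hVr : F.IsReceptive V :=
    receptive_of_fullyCentralized hS hF
      (FusionSub.isFullyCentralized_of_centric hVc (E := F) fun _ => subset_rfl)
  obtain ⟨h₀, hh₀, hh₀v⟩ := exists_extension (T := V ⊔ C) hVr hbI (sup_le
    (le_extender hVS fun x => hVS (b x).2) fun c hc => by
      refine mem_extender_of_congr ⟨hCS hc, hCV c hc⟩ (α := V.normalizerMonoidHom ⟨c, hCV c hc⟩)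
        (fun _ => rfl) ?_
      obtain ⟨z, hz, y, hy, hv⟩ := key c hc
      have hzcy : z * c * y ∈ Subgroup.normalizer (V : Set Ω) := mul_mem
        (mul_mem (Subgroup.le_normalizer (hUN z hz.1)) (hCV c hc))
        (Subgroup.le_normalizer (hCNV hy))
      refine mem_autInducedBy_iff.2 ⟨z * c * y,
        mul_mem (mul_mem (hUS hz.1) (hCS hc)) hy.1, hzcy, fun x => ?_⟩
      obtain ⟨w, rfl⟩ := b.surjective x
      rw [congr_apply]
      exact hv w ((Subgroup.mem_normalizer_iff.1 (hCV c hc) _).1 w.2))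
  have hUW : U ≤ V ⊔ C := (hlt.le.trans hNV).trans le_sup_left
  have hh₀U : ∀ u : U, h₀ ⟨u, hUW u.2⟩ = (a u : Ω) := fun u =>
    ((hh₀v ⟨u, hUN u u.2⟩ _).trans (hb1 ⟨u, hlt.le u.2⟩)).trans (hfa u).symm
  have hh₀C : ∀ c : ↥(V ⊔ C), (c : Ω) ∈ C → h₀ c ∈ C := by
    intro c hc
    refine hCdef.ge (mem_centralizerIn'.2 ⟨apply_mem hh₀ c, fun x hx => ?_⟩)
    obtain ⟨u, hu⟩ := a.surjective ⟨x, hx⟩
    rw [← show h₀ ⟨u, hUW u.2⟩ = x from (hh₀U u).trans (congrArg Subtype.val hu), ← map_inv,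
      ← map_mul, ← map_mul]
    exact congrArg h₀ (Subtype.ext (hCcomm hc u u.2))
  have hWS : V ⊔ C ≤ S := sup_le hVS hCS
  have := finite_of_le hWS
  obtain ⟨h₁, hh₁, hh₁v⟩ := exists_iso hh₀ (Q := V ⊔ C) (by
    refine Subgroup.eq_of_le_of_card_ge ?_ (by
      rw [← imgHom_self, card_imgHom (F.injective_of_mem hh₀) le_rfl])
    rw [← imgHom_self, imgHom_sup h₀ le_sup_left le_sup_right]
    refine sup_le_sup ?_ ?_
    · rintro _ ⟨x, hx, rfl⟩
      rw [hh₀v ⟨x, hx⟩ x.2]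
      exact (b _).2
    · rintro _ ⟨x, hx, rfl⟩
      exact hh₀C x hx)
  have : Finite (MulAut ↥(V ⊔ C)) := Finite.of_injective
    (fun f : MulAut ↥(V ⊔ C) => (f : ↥(V ⊔ C) → ↥(V ⊔ C))) DFunLike.coe_injective
  obtain ⟨k₃, hk₃, hbk₃⟩ := exists_coprime_pow hbp (h₁ : MulAut ↥(V ⊔ C))
  obtain ⟨h, hhdef⟩ : ∃ h : MulAut ↥(V ⊔ C), h = (h₁ : MulAut ↥(V ⊔ C)) ^ k₃ := ⟨_, rfl⟩
  have hh : h ∈ F.autGroup (V ⊔ C) := hhdef ▸ pow_mem hh₁.mem_autGroup k₃
  have hhb : ∀ x : V, (b x : Ω) = (h (Subgroup.inclusion le_sup_left x) : Ω) := fun x => by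
    have := pow_agree (le_sup_left : V ≤ V ⊔ C) (a := h₁) (b := b)
      (fun y => by rw [hh₁v]; exact (hh₀v y _).symm) k₃ x
    rw [hbk₃] at this
    rw [hhdef]; exact this
  have hhU : ∀ u : U, (h ⟨u, hUW u.2⟩ : Ω) = (a u : Ω) := fun u =>
    ((hhb ⟨u, hUN u u.2⟩).symm.trans (hb1 ⟨u, hlt.le u.2⟩)).trans (hfa u).symm
  have hhC : ∀ c : ↥(V ⊔ C), (c : Ω) ∈ C → (h c : Ω) ∈ C := by
    intro c hc
    refine hCdef.ge (mem_centralizerIn'.2 ⟨hWS (h c).2, fun x hx => ?_⟩)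
    obtain ⟨u, hu⟩ := a.surjective ⟨x, hx⟩
    rw [← show (h ⟨u, hUW u.2⟩ : Ω) = x from (hhU u).trans (congrArg Subtype.val hu),
      ← Subgroup.coe_inv, ← Subgroup.coe_mul, ← Subgroup.coe_mul, ← map_inv, ← map_mul, ← map_mul]
    exact congrArg (fun w => (h w : Ω)) (Subtype.ext (hCcomm hc u u.2))
  obtain ⟨hC', hhC'm, hhC'⟩ := exists_restrict_aut (le_sup_right : C ≤ V ⊔ C) hWS hh hhC
  have hCp' : (orderOf hC').Coprime p := by
    refine Nat.Coprime.of_dvd_left (orderOf_dvd_of_pow_eq_one ?_) (hhdef ▸ hk₃)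
    refine MulEquiv.ext fun x => Subtype.ext ?_
    rw [pow_agree le_sup_right hhC' (orderOf h) x, pow_orderOf_eq_one]
    rfl
  let ZC : Subgroup C := (U ⊓ Subgroup.centralizer (U : Set Ω)).subgroupOf C
  have hZUC : ∀ {z}, z ∈ U ⊓ Subgroup.centralizer (U : Set Ω) → z ∈ C := fun {z} hz =>
    hCdef ▸ ⟨hUS hz.1, hz.2⟩
  have hZn : ZC.Normal := ⟨fun z hz g => by
    show (g : Ω) * z * (g : Ω)⁻¹ ∈ U ⊓ Subgroup.centralizer (U : Set Ω)
    rw [hCcomm g.2 z hz.1]
    exact hz⟩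
  have hza : ∀ {z} (hz : z ∈ U ⊓ Subgroup.centralizer (U : Set Ω)),
      (a ⟨z, hz.1⟩ : Ω) ∈ U ⊓ Subgroup.centralizer (U : Set Ω) := fun {z} hz =>
    ⟨Subtype.mem _, Subgroup.mem_centralizer_iff.2 fun x hx => by
      obtain ⟨u, hu⟩ := a.surjective ⟨x, hx⟩
      rw [← show (a u : Ω) = x from congrArg Subtype.val hu, ← Subgroup.coe_mul, ← Subgroup.coe_mul,
        ← map_mul, ← map_mul]
      exact congrArg (fun w : U => (a w : Ω))
        (Subtype.ext (Subgroup.mem_centralizer_iff.1 hz.2 u u.2))⟩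
  have hZN : ∀ {w}, w ∈ N ⊓ Subgroup.centralizer (N : Set Ω) →
      w ∈ U ⊓ Subgroup.centralizer (U : Set Ω) := fun {w} hw => by
    have hcen : w ∈ Subgroup.centralizer (U : Set Ω) := Subgroup.centralizer_le hlt.le hw.2
    exact ⟨centralizerIn_le_of_centric hU ⟨hNT hw.1, hcen⟩, hcen⟩
  have hfinal : ∀ x : C, (x : Ω)⁻¹ * (hC' x : Ω) ∈ U ⊓ Subgroup.centralizer (U : Set Ω) := by
    intro x
    suffices hd : x⁻¹ * hC' x ∈ ZC from hd
    refine displacement_mem hCp' hZn (fun z hz => ?_) ?_ ?_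
    · show (hC' z : Ω) ∈ U ⊓ Subgroup.centralizer (U : Set Ω)
      rw [hhC', show Subgroup.inclusion le_sup_right z = (⟨z, hUW hz.1⟩ : ↥(V ⊔ C)) from rfl]
      exact (hhU ⟨z, hz.1⟩).symm ▸ hza hz
    · obtain ⟨z, hz, y, hy, hv⟩ := key x x.2
      obtain ⟨c', hc'def⟩ : ∃ c', c' = (hC' x : Ω) := ⟨_, rfl⟩
      have hc'C : c' ∈ C := hc'def ▸ (hC' x).2
      have hcen : (z * x * y)⁻¹ * c' ∈ centralizerIn S V := by
        refine mem_centralizerIn'.2 ⟨mul_mem (inv_mem (mul_mem (mul_mem (hUS hz.1) (hCS x.2)) hy.1))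
          (hCS hc'C), fun v hv' => ?_⟩
        obtain ⟨w, hw⟩ := b.surjective ⟨v, hv'⟩
        have hmem : (x : Ω) * w * (x : Ω)⁻¹ ∈ V :=
          (Subgroup.mem_normalizer_iff.1 (hCV x x.2) _).1 w.2
        have h1 := hv w hmem
        rw [hhb, show Subgroup.inclusion (le_sup_left : V ≤ V ⊔ C) ⟨_, hmem⟩ =
          Subgroup.inclusion le_sup_right x * Subgroup.inclusion le_sup_left w *
            (Subgroup.inclusion (le_sup_right : C ≤ V ⊔ C) x)⁻¹ from Subtype.ext rfl,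
          map_mul, map_mul, map_inv, Subgroup.coe_mul, Subgroup.coe_mul, Subgroup.coe_inv,
          ← hhC', ← hhb, show (b w : Ω) = v from congrArg Subtype.val hw, ← hc'def] at h1
        calc (z * x * y)⁻¹ * c' * v * ((z * x * y)⁻¹ * c')⁻¹ =
            (z * x * y)⁻¹ * (c' * v * c'⁻¹) * (z * x * y) := by group
          _ = v := by rw [h1]; group
      obtain ⟨w, hwdef⟩ : ∃ w, w = y * ((z * x * y)⁻¹ * c') := ⟨_, rfl⟩
      have hwC : w ∈ centralizerIn S N := hwdef ▸ mul_mem hy (centralizerIn_anti hNV hcen)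
      have hxd : ((x⁻¹ * hC' x : C) : Ω) = z * w := by
        show (x : Ω)⁻¹ * (hC' x : Ω) = _
        rw [← hc'def, hwdef]
        have h2 : (x : Ω)⁻¹ * z * x = z := by
          have := hCcomm (inv_mem x.2) z hz.1
          rwa [inv_inv] at this
        calc (x : Ω)⁻¹ * c' = ((x : Ω)⁻¹ * z * x) * (y * ((z * x * y)⁻¹ * c')) := by group
          _ = _ := by rw [h2]
      have hwU : w ∈ C := hCdef ▸ centralizerIn_anti hlt.le hwC
      have e : x⁻¹ * hC' x = ⟨z, hZUC hz⟩ * ⟨w, hwU⟩ := Subtype.ext hxd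
      show ((x⁻¹ * hC' x)⁻¹ * hC' (x⁻¹ * hC' x) : C).1 ∈ U ⊓ Subgroup.centralizer (U : Set Ω)
      rw [e, map_mul, mul_inv_rev, Subgroup.coe_mul, Subgroup.coe_mul, Subgroup.coe_mul,
        InvMemClass.coe_inv, InvMemClass.coe_inv, hhC', hhC']
      have h3 : (h (Subgroup.inclusion le_sup_right ⟨z, hZUC hz⟩) : Ω) = (a ⟨z, hz.1⟩ : Ω) :=
        hhU ⟨z, hz.1⟩
      have h4 : (h (Subgroup.inclusion le_sup_right ⟨w, hwU⟩) : Ω) = (b ⟨w, hCNV hwC⟩ : Ω) :=
        (hhb ⟨w, hCNV hwC⟩).symm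
      rw [h3, h4]
      show w⁻¹ * z⁻¹ * ((a ⟨z, hz.1⟩ : Ω) * (b ⟨w, hCNV hwC⟩ : Ω)) ∈
        U ⊓ Subgroup.centralizer (U : Set Ω)
      have h5 : z⁻¹ * (a ⟨z, hz.1⟩ : Ω) ∈ U ⊓ Subgroup.centralizer (U : Set Ω) :=
        mul_mem (inv_mem hz) (hza hz)
      have h6 := hCcomm (hCdef ▸ centralizerIn_anti hlt.le (inv_mem hwC) :) _ h5.1
      rw [inv_inv] at h6
      rw [show w⁻¹ * z⁻¹ * ((a ⟨z, hz.1⟩ : Ω) * (b ⟨w, hCNV hwC⟩ : Ω)) =
        w⁻¹ * (z⁻¹ * (a ⟨z, hz.1⟩ : Ω)) * w * (w⁻¹ * (b ⟨w, hCNV hwC⟩ : Ω)) by group, h6]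
      exact mul_mem h5 (hZN (hb2 ⟨w, hCNV hwC⟩ hwC))
    · obtain ⟨k', hk'⟩ := (hS.to_le hCS) (x⁻¹ * hC' x)
      exact ⟨k', hk'⟩
  have hW0 : U ⊔ centralizerIn S U ≤ V ⊔ C :=
    sup_le hUW (hCdef ▸ le_sup_right)
  have hpres : ∀ x : ↥(V ⊔ C), (x : Ω) ∈ U ⊔ centralizerIn S U →
      (h x : Ω) ∈ U ⊔ centralizerIn S U := by
    have hsub : U ⊔ centralizerIn S U ≤
        (((U ⊔ centralizerIn S U).subgroupOf (V ⊔ C)).comap h.toMonoidHom).map
          (Subgroup.subtype _) := by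
      refine sup_le (fun x hx => ⟨⟨x, hUW hx⟩, ?_, rfl⟩) fun x hx =>
        ⟨⟨x, hW0 (Subgroup.mem_sup_right hx)⟩, ?_, rfl⟩
      · refine Subgroup.mem_comap.2 (Subgroup.mem_subgroupOf.2 ?_)
        simp only [MulEquiv.coe_toMonoidHom]
        rw [hhU ⟨x, hx⟩]
        exact Subgroup.mem_sup_left (a ⟨x, hx⟩).2
      · refine Subgroup.mem_comap.2 (Subgroup.mem_subgroupOf.2 ?_)
        exact Subgroup.mem_sup_right (hCdef.le (hhC _ (hCdef.ge hx)))
    intro x hx
    obtain ⟨y, hy, hyx⟩ := hsub hx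
    obtain rfl : y = x := Subtype.ext hyx
    exact hy
  obtain ⟨β, hβ, hβv⟩ := exists_restrict_aut hW0 hWS hh hpres
  refine ⟨β, hβ, fun x => by rw [hβv]; exact hhU x, fun c hc => ?_⟩
  have hc' : (c : Ω) ∈ C := hCdef ▸ hc
  have := hfinal ⟨c, hc'⟩
  rw [hhC'] at this
  rw [hβv]
  exact this

/-- **The extension condition of a normal subsystem holds at all of its centric subgroups.** -/
theorem trivialExt_of_normal [Finite S] [Fact p.Prime] (hS : IsPGroup p S)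
    (hn : E.IsNormalIn F p) {U : Subgroup Ω} (hU : E.IsCentric U) {a : MulAut U}
    (ha : a ∈ E.autGroup U) : TrivialExt F U a := by
  obtain ⟨⟨hE, hF, hinv⟩, hext⟩ := hn
  have hT := hinv.2.1
  have hTS := hT.1
  have hTp : IsPGroup p T := hS.to_le hTS
  have := finite_of_le hTS
  induction hd : Nat.card T - Nat.card U using Nat.strong_induction_on generalizing U with
  | _ d ih =>
  obtain ⟨U', hU'T, hU'F, hN'F, ψ, hψ, hψN, hψU⟩ := exists_nice_rep hS hF hT hU.1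
  have hUS := hU.1.trans hTS
  have hUN : U ≤ normalizerIn S U := le_normalizerIn hUS
  obtain ⟨e, he, hev⟩ := exists_iso (restrict_mem hψ hUN) ((range_restrictHom ψ hUN).trans hψU)
  have hU'c : E.IsCentric U' := isCentric_of_isConj_big hinv hU hU'T he.isConj
  have := finite_of_le hUS
  have := finite_of_le (hU'T.trans hTS)
  have hcard : Nat.card U = Nat.card U' := Nat.card_congr e.toEquiv
  refine TrivialExt.transport hUS hψ hψU (e := e) (fun x => hev x) ?_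
  have ha' : MulAut.congr e a ∈ E.autGroup U' :=
    congr_mem_of_invariant (strongInvariant_of_invariant hinv) hU.1 hU'T he ha
  generalize MulAut.congr e a = a' at ha'
  rcases hU'T.eq_or_lt with h | hlt
  · subst h
    exact hext a' ha'
  have hlt' : U' < normalizerIn T U' := lt_normalizerIn hTp hlt
  have hNT : normalizerIn T U' ≤ T := normalizerIn_le T U'
  have hNc : E.IsCentric (normalizerIn T U') := isCentric_of_le hU'c hlt'.le hNT
  have hlt₂ : Nat.card T - Nat.card (normalizerIn T U') < d := by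
    have h1 := card_lt_of_lt hlt' hNT
    have h2 := Subgroup.card_le_of_le hNT
    omega
  have hU'n := isFullyNormalized_of_big hS hF hinv.1 hT hU'T hU'F
  obtain ⟨⟨-, R, hR⟩, -⟩ := automized_receptive hTp hE hU'n
  have hU'S := hU'T.trans hTS
  obtain ⟨X, hXdef⟩ : ∃ X : Subgroup (E.autGroup U'),
      X = (trivialExtGroup F hU'S).subgroupOf (E.autGroup U') := ⟨_, rfl⟩
  have hAT : ∀ t : Ω, t ∈ T → ∀ ht : t ∈ Subgroup.normalizer (U' : Set Ω),
      TrivialExt F U' (U'.normalizerMonoidHom ⟨t, ht⟩) := by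
    intro t ht htN
    have hWn : t ∈ Subgroup.normalizer ((U' ⊔ centralizerIn S U' : Subgroup Ω) : Set Ω) := by
      have := finite_of_le (sup_le hU'S (centralizerIn_le S U'))
      refine SatCriterion.mem_normalizer_of_finite ?_
      suffices h : U' ⊔ centralizerIn S U' ≤
          (U' ⊔ centralizerIn S U').comap (MulAut.conj t).toMonoidHom from fun x hx => h hx
      refine sup_le (fun x hx => Subgroup.mem_sup_left ((Subgroup.mem_normalizer_iff.1 htN x).1 hx))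
        fun x hx => Subgroup.mem_sup_right ?_
      refine mem_centralizerIn'.2 ⟨mul_mem (mul_mem (hTS ht) hx.1) (inv_mem (hTS ht)),
        fun u hu => ?_⟩
      show t * x * t⁻¹ * u * (t * x * t⁻¹)⁻¹ = u
      have h1 := (mem_centralizerIn'.1 hx).2 _ ((Subgroup.mem_normalizer_iff''.1 htN u).1 hu)
      calc t * x * t⁻¹ * u * (t * x * t⁻¹)⁻¹ = t * (x * (t⁻¹ * u * t) * x⁻¹) * t⁻¹ := by group
        _ = u := by rw [h1]; group
    refine ⟨(U' ⊔ centralizerIn S U').normalizerMonoidHom ⟨t, hWn⟩,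
      autInducedBy_le_autGroup (sup_le hU'S (centralizerIn_le S U'))
        (mem_autInducedBy_iff.2 ⟨t, hTS ht, hWn, fun _ => rfl⟩), fun x => rfl, fun c hc => ?_⟩
    show (c : Ω)⁻¹ * (t * c * t⁻¹) ∈ _
    have h1 : (c : Ω)⁻¹ * (t * c * t⁻¹) ∈ T := by
      rw [show (c : Ω)⁻¹ * (t * c * t⁻¹) = ((c : Ω)⁻¹ * t * c) * t⁻¹ by group]
      refine mul_mem ?_ (inv_mem ht)
      have := FusionFactor.conj_mem_of_stronglyClosed hT (inv_mem hc.1) ht
      rwa [inv_inv] at this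
    have h2 : (c : Ω)⁻¹ * (t * c * t⁻¹) ∈ Subgroup.centralizer (U' : Set Ω) := by
      refine mul_mem (inv_mem hc.2) (Subgroup.mem_centralizer_iff.2 fun u hu => ?_)
      have h3 := Subgroup.mem_centralizer_iff.1 hc.2 _
        ((Subgroup.mem_normalizer_iff''.1 htN u).1 hu)
      calc u * (t * c * t⁻¹) = t * ((t⁻¹ * u * t) * c) * t⁻¹ := by group
        _ = t * (c * (t⁻¹ * u * t)) * t⁻¹ := by rw [h3]
        _ = t * c * t⁻¹ * u := by group
    exact ⟨centralizerIn_le_of_centric hU'c ⟨h1, h2⟩, h2⟩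
  have hRX : (R : Subgroup (E.autGroup U')) ≤ X := by
    intro g hg
    rw [hR] at hg
    obtain ⟨t, ht, htN, htv⟩ := mem_autInducedBy_iff.1 hg
    rw [hXdef]
    show TrivialExt F U' (g : MulAut U')
    rw [show (g : MulAut U') = U'.normalizerMonoidHom ⟨t, htN⟩ from
      MulEquiv.ext fun x => Subtype.ext (htv x)]
    exact hAT t ht htN
  haveI hXn : X.Normal := ⟨fun g hg k => by
    rw [hXdef] at hg ⊢
    obtain ⟨β, hβ, hβ1, hβ2⟩ := hg
    have hkF : ((k : E.autGroup U') : MulAut U') ∈ F.autGroup U' :=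
      IsIso.mem_autGroup (hinv.1 _ ((mem_autGroup_iff hU'T).1 k.2))
    obtain ⟨h, hh, hh1, hh2⟩ := exists_ext_centralizer (automized_receptive hS hF hU'F).2 hkF
    have := finite_of_le (sup_le hU'S (centralizerIn_le S U'))
    have hinv' : ∀ x : U', h⁻¹ (Subgroup.inclusion le_sup_left x) =
        Subgroup.inclusion le_sup_left ((k : MulAut U')⁻¹ x) := fun x => by
      conv_lhs => rw [← MulAut.apply_inv_self _ (k : MulAut U') x]
      rw [show Subgroup.inclusion le_sup_left ((k : MulAut U') ((k : MulAut U')⁻¹ x)) =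
        h (Subgroup.inclusion le_sup_left ((k : MulAut U')⁻¹ x)) from Subtype.ext (hh1 _).symm]
      exact MulAut.inv_apply_self ..
    refine ⟨h * β * h⁻¹, mul_mem (mul_mem hh hβ) (inv_mem hh), fun x => ?_, fun c hc => ?_⟩
    · show (h (β (h⁻¹ _)) : Ω) = (((k : MulAut U') * (g : MulAut U') * (k : MulAut U')⁻¹) x : Ω)
      rw [hinv', show β (Subgroup.inclusion le_sup_left ((k : MulAut U')⁻¹ x)) =
        Subgroup.inclusion le_sup_left ((g : MulAut U') ((k : MulAut U')⁻¹ x)) from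
          Subtype.ext (hβ1 _), hh1]
      rfl
    · show (c : Ω)⁻¹ * (h (β (h⁻¹ c)) : Ω) ∈ _
      obtain ⟨d₀, hd₀, hd₀C⟩ : ∃ d₀, h d₀ = c ∧ (d₀ : Ω) ∈ centralizerIn S U' := by
        refine ⟨h⁻¹ c, MulAut.apply_inv_self .., mem_centralizerIn'.2
          ⟨sup_le hU'S (centralizerIn_le S U') (h⁻¹ c).2, fun u hu => ?_⟩⟩
        have e1 : h⁻¹ (c * Subgroup.inclusion le_sup_left ((k : MulAut U') ⟨u, hu⟩) * c⁻¹) =
            h⁻¹ (Subgroup.inclusion le_sup_left ((k : MulAut U') ⟨u, hu⟩)) :=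
          congrArg _ (Subtype.ext ((mem_centralizerIn'.1 hc).2 _ ((k : MulAut U') ⟨u, hu⟩).2))
        rw [map_mul, map_mul, map_inv, hinv', MulAut.inv_apply_self] at e1
        exact congrArg Subtype.val e1
      rw [← hd₀, MulAut.inv_apply_self]
      have hz := hβ2 d₀ hd₀C
      let z : U' := ⟨_, hz.1⟩
      rw [show β d₀ = d₀ * Subgroup.inclusion le_sup_left z from
        Subtype.ext (mul_inv_cancel_left _ _).symm, map_mul, Subgroup.coe_mul, inv_mul_cancel_left,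
        hh1]
      refine ⟨Subtype.mem _, Subgroup.mem_centralizer_iff.2 fun u hu => ?_⟩
      obtain ⟨w, hw⟩ := (k : MulAut U').surjective ⟨u, hu⟩
      rw [← show ((k : MulAut U') w : Ω) = u from congrArg Subtype.val hw, ← Subgroup.coe_mul,
        ← Subgroup.coe_mul, ← map_mul, ← map_mul]
      exact congrArg (fun v : U' => ((k : MulAut U') v : Ω))
        (Subtype.ext (Subgroup.mem_centralizer_iff.1 hz.2 w w.2))⟩
  have : Finite (MulAut U') := Finite.of_injective (fun f : MulAut U' => (f : U' → U'))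
    DFunLike.coe_injective
  suffices hle : Subgroup.normalizer ((R : Subgroup (E.autGroup U')) : Set (E.autGroup U')) ≤ X by
    have htop := Sylow.normalizer_sup_eq_top (R.subtype hRX)
    rw [show ((R.subtype hRX : Sylow p X) : Subgroup X).map X.subtype =
      (R : Subgroup (E.autGroup U')) by
      rw [Sylow.coe_subtype, Subgroup.subgroupOf_map_subtype, inf_eq_left.2 hRX]] at htop
    have hmem := (sup_le hle le_rfl : _ ⊔ X ≤ X) (htop.ge (Subgroup.mem_top (⟨a', ha'⟩ : E.autGroup U')))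
    rw [hXdef] at hmem
    exact hmem
  intro g hg
  obtain ⟨g₁, g₂, hg₁, hg₂, ⟨j, hj⟩, hg₂p, hg₁₂⟩ :=
    LocalStructure.exists_pPart_mul (p := p) g
  rw [← hg₁₂]
  have hg₁N : g₁ ∈ Subgroup.normalizer ((R : Subgroup (E.autGroup U')) : Set (E.autGroup U')) :=
    Subgroup.zpowers_le.2 hg hg₁
  have hg₂N : g₂ ∈ Subgroup.normalizer ((R : Subgroup (E.autGroup U')) : Set (E.autGroup U')) :=
    Subgroup.zpowers_le.2 hg hg₂
  refine mul_mem (hRX ?_) ?_
  · have hpg : IsPGroup p (Subgroup.zpowers g₁) :=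
      isPGroup_zpowers_of_pow_eq_one (k := j) (by rw [← hj, pow_orderOf_eq_one])
    have hsup : IsPGroup p ↥((R : Subgroup (E.autGroup U')) ⊔ Subgroup.zpowers g₁) :=
      R.2.to_sup_of_normal_left' hpg (Subgroup.zpowers_le.2 hg₁N)
    exact (R.3 hsup le_sup_left).le (Subgroup.mem_sup_right (Subgroup.mem_zpowers g₁))
  · rw [hXdef]
    show TrivialExt F U' (g₂ : MulAut U')
    refine trivialExt_normal_step hS hF hE hinv hU'c hU'F rfl hN'F hlt'
      (fun f hf => ih _ hlt₂ hNc hf rfl) g₂.2 (by rwa [Subgroup.orderOf_coe]) fun β hβ => ?_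
    have hβE : β ∈ E.autGroup U' := autInducedBy_le_autGroup hU'T hβ
    have h1 : (⟨β, hβE⟩ : E.autGroup U') ∈ (R : Subgroup (E.autGroup U')) := hR.ge hβ
    exact hR.le ((Subgroup.mem_normalizer_iff.1 hg₂N _).1 h1)

end CfsgLib.FusionLayer
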