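/-
Constrained systems and normal subsystems: the largest normal subgroup of a normal subsystem, the
centralizer of a normal subgroup, and the existence of components in non-constrained systems.
-/
import Cfsg.Agent.FusionLayer.Lift.Normal
import Cfsg.Agent.FusionSub.InnerNormal
import Cfsg.Agent.FusionSub.ConstrainedSubnormal
import Cfsg.Agent.Fusion.NormalizerSaturated
import Cfsg.Agent.Fusion.PPowerIndex
import Cfsg.Agent.FusionFactor.Construct

set_option autoImplicit false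

namespace CfsgLib.FusionLayer

open Cfsg Cfsg.FusionSystem CfsgLib.Fusion

variable {Ω : Type*} [Group Ω] {S T : Subgroup Ω} {F : FusionSystem S} {p : ℕ}

/-- A group of automorphisms without nontrivial elements of order prime to `p` is a `p`-group. -/
theorem isPGroup_of_coprime_trivial {G : Type*} [Group G] [Finite G] [Fact p.Prime]
    (h : ∀ g : G, (orderOf g).Coprime p → g = 1) : IsPGroup p G := by
  intro g
  have hp : p.Prime := Fact.out
  obtain ⟨j, m, hm, hn⟩ := Nat.exists_eq_pow_mul_and_not_dvd (orderOf_pos g).ne' p hp.ne_one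
  refine ⟨j, h _ (Nat.Coprime.of_dvd_left (orderOf_dvd_of_pow_eq_one ?_)
    ((hp.coprime_iff_not_dvd).2 hm).symm)⟩
  rw [← pow_mul, ← hn, pow_orderOf_eq_one]

/-- A subgroup central in a system is normal in it. -/
theorem isNormal_of_isCentral {Z : Subgroup Ω} (hZ : F.IsCentral Z) : F.IsNormal Z := by
  refine ⟨hZ.1, fun P φ hφ => ?_⟩
  obtain ⟨ψ, hψ, h1, h2⟩ := hZ.2 P φ hφ
  refine ⟨ψ, hψ, h1, le_antisymm ?_ fun z hz => ?_⟩
  · rintro _ ⟨⟨x, hx⟩, hxZ, rfl⟩
    exact (h2 ⟨x, hxZ⟩).symm ▸ hxZ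
  · exact ⟨⟨z, Subgroup.mem_sup_right hz⟩, hz, h2 ⟨z, hz⟩⟩

/-- A strongly closed subgroup is its only conjugate. -/
theorem eq_of_isConj_stronglyClosed [Finite S] (hT : F.StronglyClosed T) {Q : Subgroup Ω}
    (hQ : F.IsConj T Q) : Q = T := by
  obtain ⟨φ, hφ, hr⟩ := hQ
  have := finite_of_le hT.1
  refine hr ▸ Subgroup.eq_of_le_of_card_ge ?_ ?_
  · rintro _ ⟨x, rfl⟩
    exact hT.2 T le_rfl φ hφ x
  · rw [← imgHom_self, card_imgHom (F.injective_of_mem hφ) le_rfl]

/-- A strongly closed subgroup is fully normalized. -/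
theorem isFullyNormalized_of_stronglyClosed [Finite S] (hT : F.StronglyClosed T) :
    F.IsFullyNormalized T :=
  ⟨hT.1, fun Q hQ => by rw [eq_of_isConj_stronglyClosed hT hQ]⟩

/-- A strongly closed subgroup is fully centralized. -/
theorem isFullyCentralized_of_stronglyClosed [Finite S] (hT : F.StronglyClosed T) :
    F.IsFullyCentralized T :=
  ⟨hT.1, fun Q hQ => by rw [eq_of_isConj_stronglyClosed hT hQ]⟩

/-- The product of a normal and a strongly closed subgroup is strongly closed. -/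
theorem stronglyClosed_sup_normal {R C : Subgroup Ω} (hR : F.IsNormal R) (hC : F.StronglyClosed C) :
    F.StronglyClosed (R ⊔ C) := by
  refine ⟨sup_le hR.1 hC.1, fun P hP φ hφ x => ?_⟩
  obtain ⟨ψ, hψ, h1, h2⟩ := exists_normal_extension hR hφ
  obtain ⟨r, hr, c, hc, hrc⟩ : ∃ r ∈ R, ∃ c ∈ C, r * c = (x : Ω) := by
    have hx : (x : Ω) ∈ ((R ⊔ C : Subgroup Ω) : Set Ω) := hP x.2
    rw [Subgroup.coe_mul_of_right_le_normalizer_left _ _
      (hC.1.trans (normal_le_normalizer hR))] at hx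
    exact hx
  have hcR : c ∈ P ⊔ R := by
    rw [show c = r⁻¹ * (x : Ω) from by rw [← hrc, inv_mul_cancel_left]]
    exact mul_mem (Subgroup.mem_sup_right (inv_mem hr)) (Subgroup.mem_sup_left x.2)
  have e : Subgroup.inclusion le_sup_left x =
      (⟨r, Subgroup.mem_sup_right hr⟩ : ↥(P ⊔ R)) * ⟨c, hcR⟩ := Subtype.ext hrc.symm
  rw [← h1 x, e, map_mul]
  exact mul_mem (Subgroup.mem_sup_left (h2.le ⟨_, hr, rfl⟩))
    (Subgroup.mem_sup_right (stronglyClosed_apply hC hψ hc))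

/-- The centralizer of a normal subgroup in a strongly closed subgroup is strongly closed. -/
theorem stronglyClosed_centralizer {R : Subgroup Ω} (hR : F.IsNormal R) (hT : F.StronglyClosed T) :
    F.StronglyClosed (centralizerIn T R) := by
  refine ⟨inf_le_left.trans hT.1, fun P hP φ hφ x =>
    ⟨hT.2 P (hP.trans inf_le_left) φ hφ x, ?_⟩⟩
  obtain ⟨ψ, -, h1, h2⟩ := exists_normal_extension hR hφ
  show φ x ∈ Subgroup.centralizer (R : Set Ω)
  rw [Subgroup.mem_centralizer_iff]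
  intro q hq
  obtain ⟨y, hy, rfl⟩ := h2.ge hq
  rw [← h1 x, ← map_mul, ← map_mul]
  exact congrArg ψ (Subtype.ext ((Subgroup.mem_centralizer_iff.1 (hP x.2).2) y hy))

/-- The largest normal subgroup of a normal subsystem is normal in the whole system. -/
theorem isNormal_core_of_invariant [Finite S] [Fact p.Prime] (hS : IsPGroup p S)
    (hF : F.IsSaturated p) {E : FusionSystem T} (hinv : E.IsInvariantIn F) :
    F.IsNormal E.core := by
  have hTS : T ≤ S := hinv.2.1.1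
  have := finite_of_le hTS
  have hR := FusionFactor.isNormal_core E
  suffices hU : Subgroup.closure {x : Ω | ∃ φ ∈ F.Hom E.core, ∃ r : E.core, x = φ r} = E.core from
    hU ▸ FusionSub.isNormal_closure_images hS hF hinv hR
  refine le_antisymm ((Subgroup.closure_le _).2 ?_) fun r hr => Subgroup.subset_closure
    ⟨_, subtype_mem (hR.1.trans hTS), ⟨r, hr⟩, rfl⟩
  rintro _ ⟨φ, hφ, r, rfl⟩
  obtain ⟨α, hα, φ₀, hφ₀, hv⟩ := hinv.2.2.2 E.core hR.1 φ hφ
  have hle : imgHom (T.subtype.comp (α : MulAut T).toMonoidHom) E.core ≤ E.core :=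
    le_sSup (FusionSub.isNormal_image hinv hR hα)
  rw [hv r (apply_mem hφ₀ r)]
  exact hle ⟨_, (stronglyClosed_of_normal hR).2 E.core le_rfl φ₀ hφ₀ r, rfl⟩

/-- A system is constrained if it has a normal subgroup such that no automorphism of order prime
to `p` of a centric overgroup fixes it elementwise. -/
theorem isConstrained_of_fix [Finite S] [Fact p.Prime] (hS : IsPGroup p S)
    (hF : F.IsSaturated p) {R : Subgroup Ω} (hR : F.IsNormal R)
    (hfix : ∀ P : Subgroup Ω, F.IsCentric P → R ≤ P → ∀ γ ∈ F.autGroup P,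
      (orderOf γ).Coprime p → (∀ x : P, (x : Ω) ∈ R → γ x = x) → γ = 1) : F.IsConstrained p := by
  have hS' : F.StronglyClosed S := FusionSolvable.stronglyClosed_self F
  obtain ⟨C, hCdef⟩ : ∃ C, C = centralizerIn S R := ⟨_, rfl⟩
  have hCsc : F.StronglyClosed C := hCdef ▸ stronglyClosed_centralizer hR hS'
  have hQsc := stronglyClosed_sup_normal hR hCsc
  refine ⟨hF, R ⊔ C, isNormal_of_stronglyClosed hS hF hQsc fun P hP => ?_,
    FusionConstrained.isCentric_of_stronglyClosed hQsc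
      ((centralizerIn_anti le_sup_left).trans (hCdef ▸ le_sup_right))⟩
  have hPc : F.IsCentric P := hP.1
  have hr := isRadical_of_essential hS hP
  have hRP := le_of_normal_of_radical hS hR hPc hr
  have hPS := hPc.1
  have := finite_of_le hPS
  have : Finite (MulAut P) := Finite.of_injective (fun f : MulAut P => (f : P → P))
    DFunLike.coe_injective
  refine sup_le hRP (le_of_forall_Inn hS hPc hCsc.1 (stronglyClosed_le_normalizer hCsc)
    fun g hg hgN => ?_)
  let D : Subgroup (F.autGroup P) :=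
    { carrier := {a | ∀ x : P, (x : Ω) ∈ R → (a : MulAut P) x = x}
      one_mem' := fun x _ => rfl
      mul_mem' := fun {a b} ha hb x hx => by
        rw [Subgroup.coe_mul, MulAut.mul_apply, hb x hx, ha x hx]
      inv_mem' := fun {a} ha x hx => by
        rw [Subgroup.coe_inv]
        conv_lhs => rw [← ha x hx]
        rw [MulAut.inv_apply_self] }
  have hDn : D.Normal := ⟨fun b hb a x hx => by
    rw [Subgroup.coe_mul, Subgroup.coe_mul, Subgroup.coe_inv, MulAut.mul_apply, MulAut.mul_apply,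
      hb _ ((stronglyClosed_aut_iff (stronglyClosed_of_normal hR) (inv_mem a.2)).2 hx),
      MulAut.apply_inv_self]⟩
  have hDp : IsPGroup p D := by
    refine isPGroup_of_coprime_trivial fun ⟨⟨γ, hγF⟩, hγ⟩ hγc => ?_
    rw [← Subgroup.orderOf_coe, ← Subgroup.orderOf_coe] at hγc
    exact Subtype.ext (Subtype.ext (hfix P hPc hRP γ hγF hγc hγ))
  have hgS : g ∈ S := hCsc.1 hg
  refine mem_Inn_of_normal_pGroup hr hDn hDp (α := ⟨_, autInducedBy_le_autGroup hPS
    (mem_autInducedBy_iff.2 ⟨g, hgS, hgN, fun _ => rfl⟩)⟩) fun x hx => Subtype.ext ?_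
  exact (mem_centralizerIn'.1 (hCdef ▸ hg : g ∈ centralizerIn S R)).2 x hx

/-- An automorphism fixing a normal subgroup moves elements by its centralizer. -/
theorem displacement_centralizes {P R : Subgroup Ω} (hRP : R ≤ P) {γ : MulAut P}
    (hn : ∀ x : P, ∀ r ∈ R, (x : Ω) * r * (x : Ω)⁻¹ ∈ R)
    (hγ : ∀ x : P, (x : Ω) ∈ R → γ x = x) (x : P) :
    ((x⁻¹ * γ x : P) : Ω) ∈ Subgroup.centralizer (R : Set Ω) := by
  rw [Subgroup.mem_centralizer_iff]
  intro r hr
  have h1 := hγ (x * ⟨r, hRP hr⟩ * x⁻¹) (hn x r hr)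
  rw [map_mul, map_mul, map_inv, hγ ⟨r, hRP hr⟩ hr] at h1
  have h2 : (γ x : Ω) * r * (γ x : Ω)⁻¹ = (x : Ω) * r * (x : Ω)⁻¹ := congrArg Subtype.val h1
  show r * ((x : Ω)⁻¹ * (γ x : Ω)) = (x : Ω)⁻¹ * (γ x : Ω) * r
  calc r * ((x : Ω)⁻¹ * (γ x : Ω))
      = (x : Ω)⁻¹ * ((x : Ω) * r * (x : Ω)⁻¹) * (γ x : Ω) := by group
    _ = (x : Ω)⁻¹ * ((γ x : Ω) * r * (γ x : Ω)⁻¹) * (γ x : Ω) := by rw [h2]
    _ = _ := by group

/-- An automorphism of order prime to `p` fixing its displacements is trivial. -/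
theorem eq_one_of_fix_displacement [Fact p.Prime] {P : Subgroup Ω} [Finite P] (hP : IsPGroup p P)
    {γ : MulAut P} (hc : (orderOf γ).Coprime p) (h : ∀ x, γ (x⁻¹ * γ x) = x⁻¹ * γ x) : γ = 1 := by
  obtain ⟨j, hj⟩ := hP.exists_card_eq
  have hpow : γ ^ p ^ j = 1 :=
    pow_eq_one_of_displacement h fun x => hj ▸ pow_card_eq_one'
  exact orderOf_eq_one_iff.1 (Nat.eq_one_of_dvd_coprimes (Nat.Coprime.pow_right j hc) dvd_rfl
    (orderOf_dvd_of_pow_eq_one hpow))

/-- A system is constrained if a normal subgroup contains its centralizer in a subgroup containing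
the hyperfocal subgroup. -/
theorem isConstrained_of_centralizer [Finite S] [Fact p.Prime] (hS : IsPGroup p S)
    (hF : F.IsSaturated p) (hhyp : F.hyperfocalSubgroup p ≤ T)
    {R : Subgroup Ω} (hR : F.IsNormal R) (hc : centralizerIn T R ≤ R) : F.IsConstrained p := by
  refine isConstrained_of_fix hS hF hR fun P hPc hRP γ hγ hγc hfix => ?_
  have hPS := hPc.1
  have := finite_of_le hPS
  refine eq_one_of_fix_displacement (hS.to_le hPS) hγc fun x => hfix _ (hc ⟨hhyp ?_,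
    displacement_centralizes hRP (fun y r hr => FusionFactor.conj_mem_of_stronglyClosed
      (stronglyClosed_of_normal hR) (hPS y.2) hr) hfix x⟩)
  exact inv_mul_apply_mem_hyperfocal hPS (Subgroup.mem_map_of_mem _ (Subgroup.subset_closure
    (show (orderOf (⟨γ, hγ⟩ : F.autGroup P)).Coprime p by rwa [← Subgroup.orderOf_coe]))) x

/-- The centralizer system of a normal subgroup is normal. -/
theorem centralizerSystem_isNormalIn [Finite S] [Fact p.Prime] (hS : IsPGroup p S)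
    (hF : F.IsSaturated p) {Z : Subgroup Ω} (hZ : F.IsNormal Z)
    {E : FusionSystem (centralizerIn S Z)} (hE : F.IsCentralizerSystem Z E) :
    E.IsNormalIn F p := by
  have hsat := isSaturated_centralizerSystem hS hF
    (isFullyCentralized_of_stronglyClosed (stronglyClosed_of_normal hZ)) hE
  have hYsc := stronglyClosed_centralizer hZ (FusionSolvable.stronglyClosed_self F)
  have hsub : E.IsSubsystemOf F := fun P φ hφ => ((hE P).le hφ).1
  have hsi : StronglyInvariant E F := by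
    intro P Q hPQ hQY φ hφ hφQ ψ hψ
    obtain ⟨-, -, -, Φ, hΦ, hΦP, hΦZ⟩ := (hE P).le hφ
    obtain ⟨Ψ, hΨ, hΨQ, hΨZ⟩ := exists_normal_extension hZ hψ
    have hle : P ⊔ Z ≤ Q ⊔ Z := sup_le_sup_right hPQ Z
    have hΦmem : ∀ w : ↥(P ⊔ Z), Φ w ∈ Q ⊔ Z := fun w =>
      forall_mem_sup Φ le_sup_left le_sup_right
        (fun x hx => by
          rw [show (⟨x, _⟩ : ↥(P ⊔ Z)) = Subgroup.inclusion le_sup_left (⟨x, hx⟩ : P) from rfl,
            hΦP]
          exact Subgroup.mem_sup_left (hφQ _))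
        (fun x hx => by
          rw [show (⟨x, _⟩ : ↥(P ⊔ Z)) = Subgroup.inclusion le_sup_right (⟨x, hx⟩ : Z) from rfl,
            hΦZ]
          exact Subgroup.mem_sup_right hx) w.2 w.2
    obtain ⟨e, he, hev⟩ := exists_iso_range (Fusion.restrict_mem hΨ hle)
    have hmem : IsIso F e := he
    have hχ := IsIso.comp_hom hmem.symm (F.comp_mem hΦ hΨ hΦmem)
    obtain ⟨X, hXdef⟩ : ∃ X, X = (restrictHom Ψ hle).range := ⟨_, rfl⟩
    have hle' : (P.subgroupOf Q).map ψ ⊔ Z ≤ (restrictHom Ψ hle).range := by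
      refine sup_le ?_ fun z hz => ?_
      · rintro _ ⟨x, hx, rfl⟩
        exact ⟨⟨x, Subgroup.mem_sup_left hx⟩, hΨQ x⟩
      · obtain ⟨y, hy, hyz⟩ := hΨZ.ge hz
        exact ⟨⟨y, Subgroup.mem_sup_right hy⟩, hyz⟩
    obtain ⟨χ, hχmem, hχv⟩ : ∃ χ ∈ F.Hom ((P.subgroupOf Q).map ψ ⊔ Z),
        ∀ (w : ↥(P ⊔ Z)) (hw : Ψ ⟨w, hle w.2⟩ ∈ (P.subgroupOf Q).map ψ ⊔ Z),
          χ ⟨_, hw⟩ = Ψ ⟨Φ w, hΦmem w⟩ := by
      refine ⟨_, Fusion.restrict_mem hχ hle', fun w hw => ?_⟩
      show Ψ ⟨Φ (e.symm ⟨Ψ ⟨w, hle w.2⟩, _⟩), _⟩ = _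
      refine congrArg Ψ (Subtype.ext (congrArg Φ ((MulEquiv.symm_apply_eq e).2 (Subtype.ext ?_))))
      exact (hev w).symm
    have hval : ∀ (x : P)
        (hx : ψ (Subgroup.inclusion hPQ x) ∈ (P.subgroupOf Q).map ψ ⊔ Z),
        χ ⟨_, hx⟩ = ψ ⟨φ x, hφQ x⟩ := fun x hx => by
      have e1 : Ψ ⟨x, hle (Subgroup.mem_sup_left x.2)⟩ = ψ (Subgroup.inclusion hPQ x) :=
        hΨQ (Subgroup.inclusion hPQ x)
      refine Eq.trans ?_ ((hχv ⟨x, Subgroup.mem_sup_left x.2⟩ (e1 ▸ hx)).trans ?_)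
      · exact congrArg χ (Subtype.ext e1.symm)
      · refine Eq.trans ?_ (hΨQ ⟨φ x, hφQ x⟩)
        exact congrArg Ψ (Subtype.ext (hΦP x))
    have hMY : (P.subgroupOf Q).map ψ ≤ centralizerIn S Z := by
      rintro _ ⟨x, -, rfl⟩
      exact hYsc.2 Q hQY ψ hψ x
    refine ⟨restrictHom χ le_sup_left, (hE _).ge ⟨Fusion.restrict_mem hχmem _, hMY, ?_, χ, hχmem,
      fun y => rfl, fun z => ?_⟩, fun x hx => hval x _⟩
    · rintro ⟨_, ⟨⟨y, hyQ⟩, hyP, rfl⟩⟩
      rw [restrictHom_apply]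
      exact (hval ⟨y, hyP⟩ _).symm ▸ hYsc.2 Q hQY ψ hψ ⟨φ ⟨y, hyP⟩, hφQ _⟩
    · obtain ⟨y, hy, hyz⟩ := hΨZ.ge z.2
      have h2 : Φ ⟨y, Subgroup.mem_sup_right hy⟩ = (y : Ω) := hΦZ ⟨y, hy⟩
      refine Eq.trans ?_ ((hχv ⟨y, Subgroup.mem_sup_right hy⟩ (by
        show Ψ y ∈ _
        rw [hyz]
        exact Subgroup.mem_sup_right z.2)).trans ?_)
      · exact congrArg χ (Subtype.ext hyz.symm)
      · exact (congrArg Ψ (Subtype.ext h2)).trans hyz
  refine ⟨⟨hsat, hF, invariant_of_strongInvariant hS hF hsub hYsc hsi⟩, fun α hα => ?_⟩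
  obtain ⟨Y, hYdef⟩ : ∃ Y, Y = centralizerIn S Z := ⟨_, rfl⟩
  have hYS : centralizerIn S Z ≤ S := centralizerIn_le _ _
  obtain ⟨-, -, -, A, hA, hAY, hAZ⟩ := (hE _).le ((mem_autGroup_iff le_rfl).1 hα)
  have hWsc : F.StronglyClosed (centralizerIn S Z ⊔ Z) := by
    rw [sup_comm]
    exact stronglyClosed_sup_normal hZ hYsc
  have hAW : ∀ w : ↥(centralizerIn S Z ⊔ Z), A w ∈ centralizerIn S Z ⊔ Z := fun w =>
    stronglyClosed_apply hWsc hA w.2
  obtain ⟨a, ha, hav⟩ := exists_iso hA (Q := centralizerIn S Z ⊔ Z)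
    (eq_of_isConj_stronglyClosed hWsc ⟨A, hA, rfl⟩)
  obtain ⟨U, hUdef⟩ : ∃ U, U = centralizerIn S (centralizerIn S Z) := ⟨_, rfl⟩
  have hUS : U ≤ S := hUdef ▸ centralizerIn_le _ _
  have haY : ∀ x (hx : x ∈ centralizerIn S Z),
      (a ⟨x, Subgroup.mem_sup_left hx⟩ : Ω) = (α ⟨x, hx⟩ : Ω) := fun x hx =>
    (hav _).trans (hAY ⟨x, hx⟩)
  have haZ : ∀ x (hx : x ∈ Z), (a ⟨x, Subgroup.mem_sup_right hx⟩ : Ω) = x := fun x hx =>
    (hav _).trans (hAZ ⟨x, hx⟩)
  have hzU : ∀ u ∈ U, ∀ z ∈ Z, u * z * u⁻¹ ∈ Z := fun u hu z hz =>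
    FusionFactor.conj_mem_of_stronglyClosed (stronglyClosed_of_normal hZ) (hUS hu) hz
  have hyU : ∀ u ∈ U, ∀ y ∈ centralizerIn S Z, u * y * u⁻¹ = y := fun u hu y hy =>
    (mem_centralizerIn'.1 (hUdef ▸ hu : u ∈ centralizerIn S (centralizerIn S Z))).2 y hy
  have hnU : ∀ u ∈ U, u ∈ Subgroup.normalizer ((centralizerIn S Z ⊔ Z : Subgroup Ω) : Set Ω) :=
    fun u hu => stronglyClosed_le_normalizer hWsc (hUS hu)
  have hcomm : ∀ u (hu : u ∈ U) (w : ↥(centralizerIn S Z ⊔ Z))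
      (hw : u * (w : Ω) * u⁻¹ ∈ centralizerIn S Z ⊔ Z),
      (a ⟨_, hw⟩ : Ω) = u * (a w : Ω) * u⁻¹ := by
    intro u hu w hw
    obtain ⟨c, hcdef⟩ : ∃ c, c = (centralizerIn S Z ⊔ Z).normalizerMonoidHom ⟨u, hnU u hu⟩ :=
      ⟨_, rfl⟩
    have key := eq_on_sup (R := centralizerIn S Z ⊔ Z)
      ((centralizerIn S Z ⊔ Z).subtype.comp (a.toMonoidHom.comp c.toMonoidHom))
      ((centralizerIn S Z ⊔ Z).subtype.comp (c.toMonoidHom.comp a.toMonoidHom))
      le_sup_left le_sup_right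
      (fun x hx => by
        show (a (c ⟨x, _⟩) : Ω) = (c (a ⟨x, _⟩) : Ω)
        rw [show c ⟨x, Subgroup.mem_sup_left hx⟩ = ⟨x, Subgroup.mem_sup_left hx⟩ from
          Subtype.ext (by rw [hcdef]; exact hyU u hu x hx), hcdef]
        show _ = u * (a _ : Ω) * u⁻¹
        rw [haY x hx, hyU u hu _ (α ⟨x, hx⟩).2])
      (fun x hx => by
        show (a (c ⟨x, _⟩) : Ω) = (c (a ⟨x, _⟩) : Ω)
        rw [show c ⟨x, Subgroup.mem_sup_right hx⟩ =
          ⟨u * x * u⁻¹, Subgroup.mem_sup_right (hzU u hu x hx)⟩ from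
          Subtype.ext (by rw [hcdef]; rfl), haZ _ (hzU u hu x hx), hcdef]
        show _ = u * (a _ : Ω) * u⁻¹
        rw [haZ x hx])
      (x := (w : Ω)) w.2 w.2
    rw [hcdef] at key
    exact key
  obtain ⟨hWa, hWr⟩ := automized_receptive hS hF (isFullyNormalized_of_stronglyClosed hWsc)
  have hext : centralizerIn S Z ⊔ Z ⊔ U ≤ extender S (centralizerIn S Z ⊔ Z)
      ((centralizerIn S Z ⊔ Z).subtype.comp a.toMonoidHom) :=
    sup_le (le_extender ha.le_left fun x => ha.le_right (a x).2) fun u hu =>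
      Subgroup.subset_closure ⟨hUS hu, hnU u hu, u, hUS hu, fun x hx => hcomm u hu x hx⟩
  obtain ⟨ψ, hψ, hψv⟩ := exists_extension hWr ha hext
  have hbU : ∀ u (hu : u ∈ U), u⁻¹ * ψ ⟨u, Subgroup.mem_sup_right hu⟩ ∈
      centralizerIn S Z ⊓ Subgroup.centralizer (centralizerIn S Z : Set Ω) := by
    intro u hu
    obtain ⟨v, hv⟩ : ∃ v, v = ψ ⟨u, Subgroup.mem_sup_right hu⟩ := ⟨_, rfl⟩
    rw [← hv]
    have hcw : ∀ y ∈ centralizerIn S Z ⊔ Z, u * y * u⁻¹ = v * y * v⁻¹ := by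
      intro y hy
      obtain ⟨w, hw⟩ := a.surjective ⟨y, hy⟩
      have hwm : u * (w : Ω) * u⁻¹ ∈ centralizerIn S Z ⊔ Z :=
        (Subgroup.mem_normalizer_iff.1 (hnU u hu) _).1 w.2
      have h1 := hcomm u hu w hwm
      rw [hw] at h1
      have h2 : ψ ⟨w, Subgroup.mem_sup_left w.2⟩ = y := by
        rw [hψv, hw]
      refine h1.symm.trans ?_
      rw [← hψv ⟨_, hwm⟩ (Subgroup.mem_sup_left hwm), hv, ← h2, ← map_inv, ← map_mul, ← map_mul]
      rfl
    have hd : ∀ y ∈ centralizerIn S Z ⊔ Z, u⁻¹ * v * y * (u⁻¹ * v)⁻¹ = y := fun y hy => by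
      rw [show u⁻¹ * v * y * (u⁻¹ * v)⁻¹ = u⁻¹ * (v * y * v⁻¹) * u by group, ← hcw y hy]
      group
    have hdS : u⁻¹ * v ∈ S := mul_mem (inv_mem (hUS hu)) (hv ▸ apply_mem hψ _)
    have hdY : u⁻¹ * v ∈ centralizerIn S Z :=
      mem_centralizerIn'.2 ⟨hdS, fun z hz => hd z (Subgroup.mem_sup_right hz)⟩
    exact ⟨hdY, (mem_centralizerIn'.2 ⟨hdS, fun y hy => hd y (Subgroup.mem_sup_left hy)⟩ :
      u⁻¹ * v ∈ centralizerIn S (centralizerIn S Z)).2⟩
  have hle₂ : centralizerIn S Z ⊔ U ≤ centralizerIn S Z ⊔ Z ⊔ U :=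
    sup_le_sup_right le_sup_left U
  obtain ⟨β, hβ, hβv⟩ := exists_aut_restrict hψ hle₂ fun x hx =>
    forall_mem_sup (restrictHom ψ hle₂) le_sup_left le_sup_right
      (fun y hy => by
        rw [restrictHom_apply]
        refine Subgroup.mem_sup_left ?_
        show ψ ⟨y, _⟩ ∈ _
        rw [show ψ ⟨y, Subgroup.mem_sup_left (Subgroup.mem_sup_left hy)⟩ = _ from
          hψv ⟨y, Subgroup.mem_sup_left hy⟩ (Subgroup.mem_sup_left (Subgroup.mem_sup_left hy)),
          haY y hy]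
        exact (α _).2)
      (fun u hu => by
        rw [restrictHom_apply]
        have := mul_mem (Subgroup.mem_sup_right (S := centralizerIn S Z) hu)
          (Subgroup.mem_sup_left (T := U) (hbU u hu).1)
        rwa [mul_inv_cancel_left] at this)
      hx hx
  subst hUdef
  refine ⟨β, hβ, fun x => ?_, fun c hc => ?_⟩
  · rw [hβv]
    exact (hψv ⟨x, Subgroup.mem_sup_left x.2⟩ _).trans (haY x x.2)
  · rw [hβv]
    exact hbU c hc

/-- The set of graphs of the maps of a system. -/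
def mapsSet (F : FusionSystem S) : Set (Set (Ω × Ω)) :=
  {G | ∃ (P : Subgroup Ω) (φ : P →* Ω), φ ∈ F.Hom P ∧ G = Set.range fun x : P => ((x : Ω), φ x)}

theorem mapsSet_finite [Finite S] (F : FusionSystem S) : (mapsSet F).Finite := by
  refine (((Set.toFinite (S : Set Ω)).prod (Set.toFinite (S : Set Ω))).powerset).subset ?_
  rintro _ ⟨P, φ, hφ, rfl⟩ _ ⟨x, rfl⟩
  exact ⟨le_left hφ x.2, apply_mem hφ x⟩

theorem mapsSet_ncard_lt [Finite S] {E : FusionSystem T} (h : E.IsSubsystemOf F)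
    (hne : ∃ (P : Subgroup Ω) (φ : P →* Ω), φ ∈ F.Hom P ∧ φ ∉ E.Hom P) :
    (mapsSet E).ncard < (mapsSet F).ncard := by
  refine Set.ncard_lt_ncard ⟨?_, fun hle => ?_⟩ (mapsSet_finite F)
  · rintro _ ⟨P, φ, hφ, rfl⟩
    exact ⟨P, φ, h P hφ, rfl⟩
  obtain ⟨P, φ, hφ, hφE⟩ := hne
  obtain ⟨P', φ', hφ', hG⟩ := hle ⟨P, φ, hφ, rfl⟩
  have hPP : P = P' := by
    ext y
    constructor
    · intro hy
      obtain ⟨z, hz⟩ := hG.le ⟨⟨y, hy⟩, rfl⟩
      have hzy : (z : Ω) = y := congrArg Prod.fst hz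
      exact hzy ▸ z.2
    · intro hy
      obtain ⟨z, hz⟩ := hG.ge ⟨⟨y, hy⟩, rfl⟩
      have hzy : (z : Ω) = y := congrArg Prod.fst hz
      exact hzy ▸ z.2
  subst hPP
  refine hφE (mem_congr hφ' fun x => ?_)
  obtain ⟨z, hz⟩ := hG.le ⟨x, rfl⟩
  have : z = x := Subtype.ext (congrArg Prod.fst hz)
  subst this
  exact (congrArg Prod.snd hz).symm

/-- A system all whose proper normal subsystems are constrained, and which is not constrained, is
quasisimple. -/
theorem quasisimple_of_minimal [Finite S] [Fact p.Prime] (hS : IsPGroup p S)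
    (hF : F.IsSaturated p) (hnc : ¬ F.IsConstrained p)
    (hmin : ∀ (T : Subgroup Ω) (E : FusionSystem T), E.IsNormalIn F p →
      (∃ (P : Subgroup Ω) (φ : P →* Ω), φ ∈ F.Hom P ∧ φ ∉ E.Hom P) → E.IsConstrained p) :
    F.Quasisimple p := by
  have hproper : ∀ {T : Subgroup Ω} (E : FusionSystem T), T ≠ S → T ≤ S →
      ∃ (P : Subgroup Ω) (φ : P →* Ω), φ ∈ F.Hom P ∧ φ ∉ E.Hom P := fun {T} E hne hTS =>
    ⟨S, S.subtype, subtype_mem le_rfl, fun h => hne (le_antisymm hTS (le_left h))⟩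
  -- the hyperfocal subgroup is everything
  have hperf : F.hyperfocalSubgroup p = S := by
    by_contra hne
    have hle : F.hyperfocalSubgroup p ≤ S := hyperfocal_le
    obtain ⟨E, hE, hEi⟩ := PPowerIndex.exists_pPowerIndex (Nat.card S) hS F hF _ hle le_rfl
      (Nat.le_add_left _ _)
    have hEn := PPowerIndexNormal.isNormalIn_of_pPowerIndex hS hF hle
      (fun s hs t ht => conj_mem_hyperfocal hs ht) hE hEi
    have := finite_of_le hle
    exact hnc (isConstrained_of_centralizer hS hF le_rfl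
      (isNormal_core_of_invariant hS hF hEn.1.2.2)
      (FusionConstrained.core_centralizer_le (hmin _ E hEn (hproper E hne hle))))
  -- the largest normal subgroup is central
  obtain ⟨Z, hZdef⟩ : ∃ Z, Z = F.core := ⟨_, rfl⟩
  have hZn : F.IsNormal Z := hZdef ▸ FusionFactor.isNormal_core F
  have hsmall : ∀ {T : Subgroup Ω} (E : FusionSystem T), E.IsNormalIn F p →
      T ≤ Subgroup.centralizer (Z : Set Ω) → E.IsConstrained p → T ≤ Z := by
    intro T E hEn hTZ hEc
    have := finite_of_le hEn.1.2.2.2.1.1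
    have hR : E.core ≤ Z := hZdef ▸ le_sSup (isNormal_core_of_invariant hS hF hEn.1.2.2)
    exact fun t ht => hR (FusionConstrained.core_centralizer_le hEc
      ⟨ht, Subgroup.centralizer_le hR (hTZ ht)⟩)
  have hZc : F.IsCentral Z := by
    obtain ⟨E, hE⟩ := exists_isCentralizerSystem F hZn.1
    have hEn := centralizerSystem_isNormalIn hS hF hZn hE
    by_contra hne
    have hpr : ∃ (P : Subgroup Ω) (φ : P →* Ω), φ ∈ F.Hom P ∧ φ ∉ E.Hom P := by
      by_contra hall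
      push Not at hall
      refine hne ⟨hZn.1, fun P φ hφ => ?_⟩
      obtain ⟨-, -, -, ψ, hψ, h1, h2⟩ := (hE P).le (hall P φ hφ)
      exact ⟨ψ, hψ, h1, h2⟩
    have hle := hsmall E hEn inf_le_right (hmin _ E hEn hpr)
    exact hnc ⟨hF, Z, hZn,
      FusionConstrained.isCentric_of_stronglyClosed (stronglyClosed_of_normal hZn) hle⟩
  have hcen : F.center = Z := le_antisymm
    (hZdef ▸ sSup_le fun Q hQ => le_sSup (isNormal_of_isCentral hQ)) (le_sSup hZc)
  refine ⟨hF, hperf, fun E hE => ?_⟩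
  obtain ⟨θ, hθdef⟩ : ∃ θ, θ = QuotientGroup.mk' ((F.center).subgroupOf S) := ⟨_, rfl⟩
  rw [← hθdef] at hE
  have hcc : F.IsCentral F.center := FusionFactor.isCentral_center F
  have hEs : E.IsSaturated p :=
    FusionFactor.isSaturated_factor hS hF (stronglyClosed_of_central hcc) hE
  have hZS : Z ≠ S := fun e => hnc ⟨hF, S, e ▸ hZn, isCentric_self⟩
  refine ⟨hEs, fun htop => hZS (le_antisymm hZn.1 fun s hs => ?_), fun T' M' hM => ?_⟩
  · rw [← hcen]
    refine (hE.2.1 ⟨s, hs⟩).1 ?_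
    have : θ ⟨s, hs⟩ ∈ (⊥ : Subgroup _) := htop ▸ Subgroup.mem_top _
    exact Subgroup.mem_bot.1 this
  have hset : IsCentralSetup F F.center θ E M' p := ⟨hS, hF, hcc, hE, hM⟩
  have hLn := hset.liftSystem_isNormalIn
  by_cases hall : ∀ (P : Subgroup Ω) (φ : P →* Ω), φ ∈ F.Hom P →
      φ ∈ (liftSystem F p θ F.center M').Hom P
  · right
    have hTS : preimageAlong θ T' = S := le_antisymm (FusionFactor.preimageAlong_le θ T')
      (le_left (hall S _ (subtype_mem le_rfl)))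
    refine ⟨eq_top_iff.2 fun y _ => ?_, fun P' => Set.Subset.antisymm (hM.1.2.2.1 P') fun φ' hφ' => ?_⟩
    · obtain ⟨s, rfl⟩ := hE.2.2.1.ge (Subgroup.mem_top y)
      exact (FusionFactor.mem_preimageAlong.1 (hTS.symm ▸ s.2 : (s : Ω) ∈ preimageAlong θ T')).2
    obtain ⟨-, φ, hφ, hind⟩ := (hE.2.2.2 P' φ').1 hφ'
    obtain ⟨-, φ'', hφ'', hind'⟩ := liftSystem_isSubsystemOf_over _ (hall _ φ hφ)
    have e := image_preimageAlong hE (P' := P') le_top
    refine mem_of_eq e.symm hφ'' fun x hx => ?_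
    obtain ⟨s, hs, hsx⟩ := e.ge hx
    have hs' : (s : Ω) ∈ preimageAlong θ P' := hs
    obtain ⟨hm, he⟩ := induced_value hind s hs' (hsx.symm ▸ hx)
    obtain ⟨hm', he'⟩ := induced_value hind' s hs' ⟨s, hs, rfl⟩
    refine Eq.trans (congrArg φ' (Subtype.ext hsx.symm)) (he.trans (he'.symm.trans ?_))
    exact congrArg φ'' (Subtype.ext hsx)
  · left
    push Not at hall
    have hpr : ∃ (P : Subgroup Ω) (φ : P →* Ω), φ ∈ F.Hom P ∧
        φ ∉ (liftSystem F p θ F.center M').Hom P := hall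
    have hle := hsmall _ hLn (fun t ht => Subgroup.mem_centralizer_iff.2 fun z hz =>
      (Subgroup.mem_centralizer_iff.1 (F.center_le_centralizer (hcen.symm ▸ hz)) t
        (FusionFactor.preimageAlong_le θ T' ht)).symm) (hmin _ _ hLn hpr)
    rw [eq_bot_iff]
    intro y hy
    obtain ⟨s, rfl⟩ := hE.2.2.1.ge (Subgroup.mem_top y)
    rw [Subgroup.mem_bot]
    exact (hE.2.1 s).2 (hcen.symm ▸ hle (FusionFactor.mem_preimageAlong.2 ⟨s.2, hy⟩))

/-- A non-constrained saturated system has a component. -/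
theorem exists_component [Fact p.Prime] : ∀ (n : ℕ) {S : Subgroup Ω} [Finite S]
    (_ : IsPGroup p S) (F : FusionSystem S), (mapsSet F).ncard ≤ n → F.IsSaturated p →
      ¬ F.IsConstrained p → ∃ (T : Subgroup Ω) (C : FusionSystem T), C.IsComponentIn F p := by
  intro n
  induction n using Nat.strong_induction_on with
  | _ n ih =>
  intro S _ hS F hn hF hnc
  by_cases hmin : ∀ (T : Subgroup Ω) (E : FusionSystem T), E.IsNormalIn F p →
      (∃ (P : Subgroup Ω) (φ : P →* Ω), φ ∈ F.Hom P ∧ φ ∉ E.Hom P) → E.IsConstrained p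
  · exact ⟨S, F, .refl F p, quasisimple_of_minimal hS hF hnc hmin⟩
  push Not at hmin
  obtain ⟨T, E, hE, hne, hEc⟩ := hmin
  have hTS := hE.1.2.2.2.1.1
  have := finite_of_le hTS
  obtain ⟨U, C, hC, hCq⟩ := ih _ ((mapsSet_ncard_lt hE.1.2.2.1 hne).trans_le hn) (hS.to_le hTS) E
    le_rfl hE.1.1 hEc
  exact ⟨U, C, .step hC hE, hCq⟩

/-- A subnormal subsystem lives below the top subgroup. -/
theorem le_of_isSubnormalIn {E : FusionSystem T} (h : E.IsSubnormalIn F p) : T ≤ S := by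
  induction h with
  | refl F p => exact le_rfl
  | step _ hD ih => exact ih.trans hD.1.2.2.2.1.1

/-- A constrained system has no component. -/
theorem not_component_of_constrained [Finite S] [Fact p.Prime] (hS : IsPGroup p S)
    (hF : F.IsConstrained p) {C : FusionSystem T} (hC : C.IsComponentIn F p) : False := by
  obtain ⟨hsn, hsat, hperf, hfac⟩ := hC
  have hCc := FusionSub.isConstrained_of_subnormal hsn hS hF
  have hTS : T ≤ S := le_of_isSubnormalIn hsn
  have := finite_of_le hTS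
  have hTp := hS.to_le hTS
  have hcc : C.IsCentral C.center := FusionFactor.isCentral_center C
  have hcs := stronglyClosed_of_central hcc
  obtain ⟨E, hE⟩ := FusionFactor.exists_factorSystem_quotient C C.center hcs
  obtain ⟨hEs, hne, hsimple⟩ := hfac E hE
  obtain ⟨-, R, hR, hRc⟩ :=
    FusionConstrained.isConstrained_factor hTp hCc hcs C.center_le_centralizer hE
  have : Finite (↥T ⧸ (C.center).subgroupOf T) :=
    Finite.of_surjective _ (QuotientGroup.mk'_surjective _)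
  obtain ⟨Q, hQdef⟩ : ∃ Q : Subgroup (↥T ⧸ (C.center).subgroupOf T), Q = ⊤ := ⟨_, rfl⟩
  have hTop : IsPGroup p (⊤ : Subgroup (↥T ⧸ (C.center).subgroupOf T)) :=
    (hTp.to_quotient _).of_equiv Subgroup.topEquiv.symm
  obtain ⟨hRs, hRweak⟩ : (innerFusionSystem R).IsSaturated p ∧
      (innerFusionSystem R).IsWeaklyNormalIn E p := by
    have h1 := (FusionSub.isNormal_iff_inner_isWeaklyNormalIn hTop hEs hR.1).1 hR
    exact ⟨h1.1, h1⟩
  have hnorm : (innerFusionSystem R).IsNormalIn E p := by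
    refine ⟨hRweak, fun α hα => ?_⟩
    have hCR : centralizerIn ⊤ R ≤ R := centralizerIn_le_of_centric hRc
    have e : R ⊔ centralizerIn ⊤ R = R := sup_eq_left.2 hCR
    obtain ⟨-, g, hg, hgv⟩ := (mem_autGroup_iff le_rfl).1 hα
    refine ⟨(R ⊔ centralizerIn ⊤ R).normalizerMonoidHom
      ⟨g, Subgroup.le_normalizer (Subgroup.mem_sup_left hg)⟩,
      autInducedBy_le_autGroup le_top (mem_autInducedBy_iff.2 ⟨g, Subgroup.mem_top g,
        Subgroup.le_normalizer (Subgroup.mem_sup_left hg), fun _ => rfl⟩),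
      fun x => (hgv x).symm, fun c hc => ?_⟩
    show (c : ↥T ⧸ (C.center).subgroupOf T)⁻¹ * (g * c * g⁻¹) ∈ _
    rw [← comm_of_centralizerIn hc hg, mul_inv_cancel_right, inv_mul_cancel]
    exact one_mem _
  rcases hsimple R _ hnorm with hbot | ⟨htop, hhom⟩
  · refine hne (eq_bot_iff.2 fun x _ => ?_)
    have := centralizerIn_le_of_centric hRc (mem_centralizerIn'.2 ⟨Subgroup.mem_top x, fun r hr => by
      rw [hbot, Subgroup.mem_bot] at hr
      rw [hr, mul_one, mul_inv_cancel]⟩)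
    rwa [hbot] at this
  -- every automorphism of order prime to `p` is trivial
  obtain ⟨hmor, -, -⟩ := FusionFactor.isSurjectiveMorphism_of_isFactorSystem hTp hsat hcs hE
  have key : ∀ (P : Subgroup Ω), P ≤ T → ∀ α ∈ C.autGroup P, (orderOf α).Coprime p → α = 1 := by
    intro P hP α hα hαc
    obtain ⟨ψ, hψ, hψ1, hψ2⟩ := hcc.2 P _ ((mem_autGroup_iff hP).1 hα)
    have hWT : P ⊔ C.center ≤ T := sup_le hP hcc.1
    obtain ⟨a, ha, hav⟩ := exists_aut_restrict hψ le_rfl fun x hx =>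
      forall_mem_sup ψ le_sup_left le_sup_right
        (fun y hy => Subgroup.mem_sup_left (by
          rw [show (⟨y, _⟩ : ↥(P ⊔ C.center)) = Subgroup.inclusion le_sup_left (⟨y, hy⟩ : P) from rfl,
            hψ1]
          exact (α _).2))
        (fun y hy => Subgroup.mem_sup_right ((hψ2 ⟨y, hy⟩).symm ▸ hy)) hx hx
    have := finite_of_le hWT
    have : Finite (MulAut ↥(P ⊔ C.center)) := Finite.of_injective
      (fun f : MulAut ↥(P ⊔ C.center) => (f : ↥(P ⊔ C.center) → ↥(P ⊔ C.center)))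
      DFunLike.coe_injective
    obtain ⟨k, hk, hαk⟩ := exists_coprime_pow hαc a
    have hag : ∀ x : P, (α x : Ω) = (a (Subgroup.inclusion le_sup_left x) : Ω) := fun x =>
      ((hav _).trans (hψ1 x)).symm
    have hak : a ^ k ∈ C.autGroup (P ⊔ C.center) := pow_mem ha k
    obtain ⟨φ', hφ', hind⟩ := hmor.2 _ _ ((mem_autGroup_iff hWT).1 hak)
    obtain ⟨-, g, -, hgv⟩ := (hhom _).ge hφ'
    -- some `p`-power of the conjugation is trivial
    obtain ⟨j, hj⟩ := hTop ⟨g, Subgroup.mem_top g⟩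
    have hgj : g ^ p ^ j = 1 := congrArg Subtype.val hj
    have hiter : ∀ (m : ℕ) (x : ↥(P ⊔ C.center)),
        QuotientGroup.mk' ((C.center).subgroupOf T)
            ⟨(((a ^ k) ^ m) x : Ω), hWT (Subtype.mem _)⟩ =
          g ^ m * QuotientGroup.mk' ((C.center).subgroupOf T) ⟨x, hWT x.2⟩ * (g ^ m)⁻¹ := by
      intro m
      induction m with
      | zero =>
        intro x
        simp
      | succ m ihm =>
        intro x
        obtain ⟨hm, he⟩ := induced_value hind ⟨x, hWT x.2⟩ x.2 ⟨_, x.2, rfl⟩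
        rw [hgv] at he
        have h3 := ihm ((a ^ k) x)
        rw [← MulAut.mul_apply, ← pow_succ] at h3
        rw [h3, show QuotientGroup.mk' ((C.center).subgroupOf T)
          ⟨((a ^ k) x : Ω), hWT (Subtype.mem _)⟩ = _ from he.symm, pow_succ]
        group
    have hker : (a ^ k) ^ p ^ j ∈ kerAut hcc hWT :=
      ⟨pow_mem hak _, fun x => inv_mul_mem_of_eq hE (s := ⟨x, hWT x.2⟩)
        (t := ⟨(((a ^ k) ^ p ^ j) x : Ω), hWT (Subtype.mem _)⟩) (by
          rw [hiter, hgj, one_mul, inv_one, mul_one])⟩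
    obtain ⟨i, hi⟩ := kerAut_isPGroup hTp hcc hWT ⟨_, hker⟩
    have h1 : ((a ^ k) ^ p ^ j) ^ p ^ i = 1 := congrArg Subtype.val hi
    rw [← pow_mul, ← pow_add] at h1
    have h2 : a ^ k = 1 := orderOf_eq_one_iff.1 (Nat.eq_one_of_dvd_coprimes
      (Nat.Coprime.pow_right (j + i) hk) dvd_rfl (orderOf_dvd_of_pow_eq_one h1))
    rw [← hαk]
    refine MulEquiv.ext fun x => Subtype.ext ?_
    rw [pow_agree le_sup_left hag k x, h2]
    rfl
  have hhyp : C.hyperfocalSubgroup p = ⊥ := by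
    rw [eq_bot_iff]
    refine (Subgroup.closure_le _).2 ?_
    rintro _ ⟨P, α, x, hP, hα, rfl⟩
    have h1 : α = 1 := by
      have hle : pResidual p (C.autGroup P) ≤ ⊥ := (Subgroup.closure_le _).2 fun b hb => by
        have hb' : (orderOf (b : MulAut P)).Coprime p := by rwa [Subgroup.orderOf_coe]
        exact Subgroup.mem_bot.2 (Subtype.ext (key P hP b b.2 hb'))
      exact Subgroup.mem_bot.1 (hle hα)
    rw [h1, Subgroup.coe_one, MulAut.one_apply, inv_mul_cancel]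
    exact one_mem _
  refine hne (eq_bot_iff.2 fun y _ => ?_)
  obtain ⟨t, rfl⟩ := QuotientGroup.mk'_surjective _ y
  have ht : t = 1 := Subtype.ext (Subgroup.mem_bot.1 ((hperf.symm.trans hhyp).le t.2))
  rw [ht, map_one]
  exact one_mem _

end CfsgLib.FusionLayer
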