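/-
A saturated system is of characteristic `p`-type or of component type.
-/
import Cfsg.Agent.FusionLayer.Constrained
import Cfsg.Agent.CharPLocal.Basic
import Cfsg.Agent.Solvable.Nilpotent
import Mathlib.GroupTheory.SemidirectProduct

set_option autoImplicit false

namespace CfsgLib.FusionLayer

open Cfsg Cfsg.FusionSystem CfsgLib.Fusion

/-- `A × B` lemma for automorphisms: an automorphism of order prime to `p` of a `p`-group commuting
with a `p`-group of automorphisms and fixing its fixed points is trivial. -/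
theorem eq_one_of_axb {R : Type*} [Group R] [Finite R] {p : ℕ} [Fact p.Prime] (hR : IsPGroup p R)
    {A : Subgroup (MulAut R)} (hA : IsPGroup p A) {a : MulAut R} (ha : (orderOf a).Coprime p)
    (hcomm : ∀ b ∈ A, a * b = b * a) (hfix : ∀ r : R, (∀ b ∈ A, b r = r) → a r = r) : a = 1 := by
  have : Finite (MulAut R) := Finite.of_injective (fun f : MulAut R => (f : R → R))
    DFunLike.coe_injective
  have : Finite (R ⋊[MonoidHom.id (MulAut R)] MulAut R) :=
    Finite.of_equiv _ (SemidirectProduct.equivProd).symm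
  obtain ⟨x, hxdef⟩ : ∃ x, x = (SemidirectProduct.inr a : R ⋊[MonoidHom.id (MulAut R)] MulAut R) :=
    ⟨_, rfl⟩
  have hN : (SemidirectProduct.inl : R →* R ⋊[MonoidHom.id (MulAut R)] MulAut R).range.Normal := by
    rw [SemidirectProduct.range_inl_eq_ker_rightHom]
    infer_instance
  have htop : Subgroup.normalizer ((SemidirectProduct.inl :
      R →* R ⋊[MonoidHom.id (MulAut R)] MulAut R).range :
        Set (R ⋊[MonoidHom.id (MulAut R)] MulAut R)) = ⊤ :=
    Subgroup.normalizer_eq_top_iff.2 hN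
  have key := CharPLocal.commute_of_axb (p := p)
    (U := (SemidirectProduct.inl : R →* R ⋊[MonoidHom.id (MulAut R)] MulAut R).range)
    (R := A.map (SemidirectProduct.inr : MulAut R →* R ⋊[MonoidHom.id (MulAut R)] MulAut R))
    (hR.of_surjective _ (MonoidHom.rangeRestrict_surjective _)) (hA.map _) (x := x)
    (by rw [hxdef, orderOf_injective _ SemidirectProduct.inr_injective]; exact ha)
    (htop ▸ Subgroup.mem_top x)
    (Subgroup.mem_centralizer_iff.2 (by
      rintro _ ⟨b, hb, rfl⟩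
      rw [hxdef, ← map_mul, ← map_mul, hcomm b hb]))
    (htop ▸ le_top) (by
      rintro _ ⟨r, rfl⟩ hr
      rw [hxdef]
      have h1 : ∀ b ∈ A, b r = r := fun b hb => by
        have h := Subgroup.mem_centralizer_iff.1 hr _ ⟨b, hb, rfl⟩
        have h' := congrArg SemidirectProduct.left h
        simpa using h'
      ext
      · simp [hfix r h1]
      · simp)
  refine MulEquiv.ext fun r => ?_
  have h := Subgroup.mem_centralizer_iff.1 key _ ⟨r, rfl⟩
  rw [hxdef] at h
  have h' := congrArg SemidirectProduct.left h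
  simpa using h'.symm

variable {Ω : Type*} [Group Ω] {S T : Subgroup Ω} {F : FusionSystem S} {p : ℕ}

/-- Constrainedness only depends on the maps. -/
theorem isConstrained_congr {T' : Subgroup Ω} (e : T = T') {E : FusionSystem T}
    {E' : FusionSystem T'} (h : ∀ P, E.Hom P = E'.Hom P) (hE : E.IsConstrained p) :
    E'.IsConstrained p := by
  subst e
  rwa [← FusionTransport.ext_of_hom h]

/-- Transport of the maps of a centralizer system by an isomorphism of the system. -/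
theorem exists_centralizerHom_transport {U W U' W' : Subgroup Ω} {e : W ≃* W'} (he : IsIso F e)
    (hUW : U ≤ W) (hCW : centralizerIn S U ≤ W) (hU' : U' ≤ W')
    (heU : ∀ w : W, (e w : Ω) ∈ U' ↔ (w : Ω) ∈ U) {P : Subgroup Ω} {φ : P →* Ω}
    (hφ : φ ∈ F.centralizerHom U P) {P' : Subgroup Ω} (hP'W : P' ≤ W')
    (hP' : ∀ y : P', (e.symm ⟨y, hP'W y.2⟩ : Ω) ∈ P) :
    ∃ φ' ∈ F.centralizerHom U' P', ∀ (y : P') (hm : φ ⟨_, hP' y⟩ ∈ W),
      φ' y = (e ⟨_, hm⟩ : Ω) := by
  obtain ⟨-, hPC, hval, Φ, hΦ, hΦP, hΦU⟩ := hφ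
  have hle : P' ⊔ U' ≤ W' := sup_le hP'W hU'
  obtain ⟨e', he', hev'⟩ := exists_iso_range (restrict_mem he.symm hle)
  have hmem : ∀ w : ↥(P' ⊔ U'), restrictHom (W.subtype.comp e.symm.toMonoidHom) hle w ∈ P ⊔ U :=
    fun w => forall_mem_sup (restrictHom (W.subtype.comp e.symm.toMonoidHom) hle)
      le_sup_left le_sup_right
      (fun x hx => Subgroup.mem_sup_left (hP' ⟨x, hx⟩))
      (fun x hx => Subgroup.mem_sup_right ((heU _).1 (by
        show (e (e.symm ⟨x, _⟩) : Ω) ∈ U'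
        rw [MulEquiv.apply_symm_apply]
        exact hx))) w.2 w.2
  have hmem' : ∀ w : ↥(P ⊔ U), Φ w ∈ W := fun w =>
    forall_mem_sup Φ le_sup_left le_sup_right
      (fun x hx => by
        rw [show (⟨x, _⟩ : ↥(P ⊔ U)) = Subgroup.inclusion le_sup_left (⟨x, hx⟩ : P) from rfl, hΦP]
        exact hCW (hval _))
      (fun x hx => by
        rw [show (⟨x, _⟩ : ↥(P ⊔ U)) = Subgroup.inclusion le_sup_right (⟨x, hx⟩ : U) from rfl, hΦU]
        exact hUW hx) w.2 w.2
  have h1 := F.comp_mem (restrict_mem he.symm hle) hΦ hmem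
  have h2 := F.comp_mem h1 he fun w => hmem' ⟨_, hmem w⟩
  obtain ⟨χ, hχ, hχv⟩ : ∃ χ ∈ F.Hom (P' ⊔ U'), ∀ (w : ↥(P' ⊔ U'))
      (hw : (e.symm ⟨w, hle w.2⟩ : Ω) ∈ P ⊔ U) (hm : Φ ⟨_, hw⟩ ∈ W),
      χ w = (e ⟨_, hm⟩ : Ω) := ⟨_, h2, fun w hw hm => rfl⟩
  have hfixU : ∀ u : U', χ (Subgroup.inclusion le_sup_right u) = u := fun u => by
    have hu : (e.symm ⟨u, hU' u.2⟩ : Ω) ∈ U := (heU _).1 (by
      rw [MulEquiv.apply_symm_apply]; exact u.2)
    have hu2 := hΦU ⟨_, hu⟩
    refine (hχv _ (Subgroup.mem_sup_right hu) (hmem' _)).trans ?_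
    refine Eq.trans (congrArg (fun v : W => (e v : Ω)) (Subtype.ext hu2 :
      (⟨Φ ⟨_, Subgroup.mem_sup_right hu⟩, hmem' _⟩ : W) = e.symm ⟨u, hU' u.2⟩)) ?_
    rw [MulEquiv.apply_symm_apply]
  have hvalP : ∀ (y : P') (hm : φ ⟨_, hP' y⟩ ∈ W),
      χ (Subgroup.inclusion le_sup_left y) = (e ⟨_, hm⟩ : Ω) := fun y hm => by
    refine (hχv _ (Subgroup.mem_sup_left (hP' y)) (hmem' _)).trans ?_
    exact congrArg (fun v : W => (e v : Ω)) (Subtype.ext (hΦP ⟨_, hP' y⟩))
  have hcent : ∀ {y : Ω} (hyW : y ∈ W'), (e.symm ⟨y, hyW⟩ : Ω) ∈ centralizerIn S U →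
      y ∈ centralizerIn S U' := fun {y} hyW hy => mem_centralizerIn'.2
    ⟨he.le_right hyW, fun u hu => by
      have hu' : (e.symm ⟨u, hU' hu⟩ : Ω) ∈ U := (heU _).1 (by
        rw [MulEquiv.apply_symm_apply]; exact hu)
      have h := (mem_centralizerIn'.1 hy).2 _ hu'
      have h' : e.symm ⟨y, hyW⟩ * e.symm ⟨u, hU' hu⟩ * (e.symm ⟨y, hyW⟩)⁻¹ =
          e.symm ⟨u, hU' hu⟩ := Subtype.ext h
      rw [← map_inv, ← map_mul, ← map_mul] at h'
      exact congrArg Subtype.val (e.symm.injective h')⟩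
  refine ⟨restrictHom χ le_sup_left, ⟨restrict_mem hχ _, fun y hy => hcent (hP'W hy) (hPC (hP'
    ⟨y, hy⟩)), fun y => ?_, χ, hχ, fun y => rfl, hfixU⟩, hvalP⟩
  have hm : φ ⟨_, hP' y⟩ ∈ W := hCW (hval _)
  have hv : restrictHom χ le_sup_left y = (e ⟨_, hm⟩ : Ω) := hvalP y hm
  rw [hv]
  refine hcent (e ⟨_, hm⟩).2 ?_
  rw [show (⟨(e ⟨_, hm⟩ : Ω), (e ⟨_, hm⟩).2⟩ : W') = e ⟨_, hm⟩ from rfl,
    MulEquiv.symm_apply_apply]
  exact hval _

/-- Centralizer systems of conjugate fully centralized subgroups are constrained together. -/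
theorem isConstrained_centralizer_of_conj [Finite S] [Fact p.Prime] (hS : IsPGroup p S)
    {U U' : Subgroup Ω} (hU : F.IsFullyCentralized U)
    {ψ : ↥(U ⊔ centralizerIn S U) →* Ω} (hψ : ψ ∈ F.Hom (U ⊔ centralizerIn S U))
    (hψU : imgHom ψ U = U') {K : FusionSystem (centralizerIn S U)}
    (hK : F.IsCentralizerSystem U K) {K' : FusionSystem (centralizerIn S U')}
    (hK' : F.IsCentralizerSystem U' K') (hc : K'.IsConstrained p) : K.IsConstrained p := by
  have hconj : F.IsConj U U' := hψU ▸ isConj_restrict hψ le_sup_left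
  have hCimg : imgHom ψ (centralizerIn S U) = centralizerIn S U' := by
    have := finite_of_le (centralizerIn_le S U')
    refine Subgroup.eq_of_le_of_card_ge ?_ ?_
    · rintro _ ⟨c, hc, rfl⟩
      have := map_mem_centralizer (ψ := ψ) (le_sup_left : U ≤ U ⊔ centralizerIn S U) (g := c)
        (Subgroup.mem_inf.1 hc).2
      rw [hψU] at this
      exact ⟨apply_mem hψ c, this⟩
    · rw [card_imgHom (F.injective_of_mem hψ) le_sup_right]
      exact hU.2 U' hconj
  have hr : ψ.range = U' ⊔ centralizerIn S U' := by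
    rw [← imgHom_self, imgHom_sup ψ le_sup_left le_sup_right, hψU, hCimg]
  obtain ⟨e, he, hev⟩ := exists_iso hψ hr
  have heU : ∀ w : ↥(U ⊔ centralizerIn S U), (e w : Ω) ∈ U' ↔ (w : Ω) ∈ U := fun w => by
    rw [hev, ← hψU]
    exact mem_imgHom_apply_iff (F.injective_of_mem hψ)
  have heC : ∀ w : ↥(U ⊔ centralizerIn S U),
      (e w : Ω) ∈ centralizerIn S U' ↔ (w : Ω) ∈ centralizerIn S U := fun w => by
    rw [hev, ← hCimg]
    exact mem_imgHom_apply_iff (F.injective_of_mem hψ)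
  obtain ⟨θ, hθdef⟩ : ∃ θ : centralizerIn S U' →* Ω, θ =
      (U ⊔ centralizerIn S U).subtype.comp
        (e.symm.toMonoidHom.comp (Subgroup.inclusion le_sup_right)) := ⟨_, rfl⟩
  have hθv : ∀ s : centralizerIn S U', θ s = (e.symm ⟨s, Subgroup.mem_sup_right s.2⟩ : Ω) :=
    fun s => by rw [hθdef]; rfl
  have hbot : K'.StronglyClosed ⊥ := ⟨bot_le, fun A hA φ _ x => by
    rw [Subgroup.mem_bot, show x = 1 from Subtype.ext (Subgroup.mem_bot.1 (hA x.2)), map_one]⟩
  have hθC : ∀ s, θ s ∈ centralizerIn S U := fun s => by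
    rw [hθv]
    exact (heC _).1 (by rw [MulEquiv.apply_symm_apply]; exact s.2)
  have hθinj : Function.Injective θ := fun a b hab => by
    rw [hθv, hθv] at hab
    exact Subtype.ext (congrArg Subtype.val (e.symm.injective (Subtype.ext hab)) :)
  have hθback : ∀ (x : Ω) (hx : x ∈ centralizerIn S U),
      ∃ hm : (e ⟨x, Subgroup.mem_sup_right hx⟩ : Ω) ∈ centralizerIn S U', θ ⟨_, hm⟩ = x :=
    fun x hx => ⟨(heC _).2 hx, by
      rw [hθv]
      exact congrArg Subtype.val (e.symm_apply_apply ⟨x, Subgroup.mem_sup_right hx⟩)⟩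
  have hfac : K'.IsFactorSystem ⊥ θ K := by
    refine ⟨bot_le, fun s => ?_, ?_, fun P φ => ⟨fun hφ => ?_, ?_⟩⟩
    · rw [Subgroup.mem_bot]
      exact ⟨fun h => congrArg Subtype.val (hθinj (h.trans (map_one θ).symm) : s = 1),
        fun h => by rw [show s = 1 from Subtype.ext h, map_one]⟩
    · refine le_antisymm ?_ fun x hx => ?_
      · rintro _ ⟨s, rfl⟩
        exact hθC s
      · obtain ⟨hm, he'⟩ := hθback x hx
        exact ⟨_, he'⟩
    · have hφ' := (hK P).le hφ
      have hP := hφ'.2.1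
      have hpre : preimageAlong θ P ≤ U' ⊔ centralizerIn S U' :=
        (FusionFactor.preimageAlong_le θ P).trans le_sup_right
      obtain ⟨χ, hχ, hχv⟩ := exists_centralizerHom_transport he le_sup_left le_sup_right le_sup_left
        heU hφ' hpre fun y => by
          obtain ⟨hy, hyP⟩ := FusionFactor.mem_preimageAlong.1 y.2
          rw [hθv] at hyP
          exact hyP
      refine ⟨hP, χ, (hK' _).ge hχ, FusionFactor.preimageAlong_le θ P, hχ.2.2.1,
        fun y => (FusionFactor.mem_preimageAlong.1 y.2).2, fun y => ?_⟩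
      obtain ⟨hy, hyP⟩ := FusionFactor.mem_preimageAlong.1 y.2
      have hyP' : (e.symm ⟨y, hpre y.2⟩ : Ω) ∈ P := by rwa [hθv] at hyP
      have hm : φ ⟨_, hyP'⟩ ∈ U ⊔ centralizerIn S U := Subgroup.mem_sup_right (hφ'.2.2.1 _)
      refine Eq.trans ?_ (hθv _).symm
      have hv : (⟨χ y, Subgroup.mem_sup_right (hχ.2.2.1 y)⟩ :
          ↥(U' ⊔ centralizerIn S U')) = e ⟨_, hm⟩ := Subtype.ext (hχv y hm)
      refine Eq.trans (congrArg φ (Subtype.ext (hθv _) : _ = (⟨_, hyP'⟩ : P))) ?_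
      exact (congrArg (fun v => (e.symm v : Ω)) hv).trans
        (congrArg Subtype.val (e.symm_apply_apply ⟨_, hm⟩)) |>.symm
    · rintro ⟨hP, χ, hχ, hind⟩
      have hχ' := (hK' _).le hχ
      have hPW : P ≤ U ⊔ centralizerIn S U := hP.trans le_sup_right
      obtain ⟨φ₂, hφ₂, hφ₂v⟩ := exists_centralizerHom_transport he.symm le_sup_left le_sup_right
        le_sup_left (fun w => by
          rw [← heU (e.symm w), MulEquiv.apply_symm_apply]) hχ' hPW fun y => by
          rw [MulEquiv.symm_symm]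
          obtain ⟨hm, he'⟩ := hθback y (hP y.2)
          exact FusionFactor.mem_preimageAlong.2 ⟨hm, he'.symm ▸ y.2⟩
      refine (hK P).ge (?_ : φ ∈ F.centralizerHom U P)
      suffices hφe : φ = φ₂ from hφe ▸ hφ₂
      refine MonoidHom.ext fun y => ?_
      obtain ⟨hm, he'⟩ := hθback y (hP y.2)
      have hy : (e ⟨y, hPW y.2⟩ : Ω) ∈ preimageAlong θ P :=
        FusionFactor.mem_preimageAlong.2 ⟨hm, he'.symm ▸ y.2⟩
      have hcm : χ ⟨_, hy⟩ ∈ centralizerIn S U' := hχ'.2.2.1 _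
      rw [hφ₂v y (Subgroup.mem_sup_right hcm)]
      refine Eq.trans (congrArg φ (Subtype.ext he'.symm :
        y = ⟨θ ⟨_, hm⟩, he'.symm ▸ y.2⟩)) ?_
      refine (FusionTransport.induced_apply hind ⟨_, hy⟩ hm hcm (he'.symm ▸ y.2)).trans ?_
      exact hθv _
  have := finite_of_le (centralizerIn_le S U')
  exact FusionConstrained.isConstrained_factor (hS.to_le (centralizerIn_le S U')) hc hbot bot_le hfac

/-- If the centralizer system of a central subgroup `X` of `U` is constrained, so is that of `U`. -/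
theorem isConstrained_centralizer_of_le [Finite S] [Fact p.Prime] (hS : IsPGroup p S)
    (hF : F.IsSaturated p) {X U : Subgroup Ω} (hU : F.IsFullyCentralized U) (hXU : X ≤ U)
    (hUX : U ≤ centralizerIn S X) {G : FusionSystem (centralizerIn S X)}
    (hG : F.IsCentralizerSystem X G) (hGc : G.IsConstrained p)
    {K : FusionSystem (centralizerIn S U)} (hK : F.IsCentralizerSystem U K) :
    K.IsConstrained p := by
  have hUS := hU.1
  have hfC := finite_of_le (centralizerIn_le S X)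
  have hKs := isSaturated_centralizerSystem hS hF hU hK
  have hCC : centralizerIn S U ≤ centralizerIn S X := centralizerIn_anti hXU
  obtain ⟨R, hRdef⟩ : ∃ R, R = G.core := ⟨_, rfl⟩
  have hR : G.IsNormal R := hRdef ▸ FusionFactor.isNormal_core G
  have hRc : centralizerIn (centralizerIn S X) R ≤ R :=
    hRdef ▸ FusionConstrained.core_centralizer_le hGc
  have hRS : R ≤ S := hR.1.trans (centralizerIn_le _ _)
  -- maps of the centralizer system extend to maps normalizing `R`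
  have hext : ∀ {P : Subgroup Ω} {φ : P →* Ω}, φ ∈ K.Hom P →
      ∃ Ψ ∈ F.Hom ((P ⊔ U) ⊔ R),
        (∀ x : P, Ψ ⟨x, Subgroup.mem_sup_left (Subgroup.mem_sup_left x.2)⟩ = φ x) ∧
        (∀ u (hu : u ∈ U), Ψ ⟨u, Subgroup.mem_sup_left (Subgroup.mem_sup_right hu)⟩ = u) ∧
        imgHom Ψ R = R := by
    intro P φ hφ
    obtain ⟨-, hPC, hval, Φ, hΦ, hΦP, hΦU⟩ := (hK P).le hφ
    have hPU : P ⊔ U ≤ centralizerIn S X := sup_le (hPC.trans hCC) hUX
    have hle : (P ⊔ U) ⊔ X ≤ P ⊔ U := sup_le le_rfl (hXU.trans le_sup_right)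
    have hΦG : Φ ∈ G.Hom (P ⊔ U) := (hG _).ge ⟨hΦ, hPU, fun w =>
      forall_mem_sup Φ le_sup_left le_sup_right
        (fun x hx => (hΦP ⟨x, hx⟩).symm ▸ hCC (hval _))
        (fun x hx => (hΦU ⟨x, hx⟩).symm ▸ hUX hx) w.2 w.2,
      restrictHom Φ hle, restrict_mem hΦ hle, fun x => rfl, fun x => hΦU ⟨x, hXU x.2⟩⟩
    obtain ⟨Ψ, hΨ, hΨ1, hΨ2⟩ := exists_normal_extension hR hΦG
    refine ⟨Ψ, ((hG _).le hΨ).1, fun x => ?_, fun u hu => ?_, hΨ2⟩
    · exact (hΨ1 ⟨x, Subgroup.mem_sup_left x.2⟩).trans (hΦP x)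
    · exact (hΨ1 ⟨u, Subgroup.mem_sup_right hu⟩).trans (hΦU ⟨u, hu⟩)
  obtain ⟨Q, hQdef⟩ : ∃ Q, Q = centralizerIn R U := ⟨_, rfl⟩
  have hQR : Q ≤ R := hQdef ▸ centralizerIn_le _ _
  have hQC : Q ≤ centralizerIn S U := hQdef ▸ inf_le_inf_right _ hRS
  have hQn : K.IsNormal Q := by
    refine ⟨hQC, fun P φ hφ => ?_⟩
    obtain ⟨-, hPC, hval, -⟩ := (hK P).le hφ
    obtain ⟨Ψ, hΨ, hΨP, hΨU, hΨR⟩ := hext hφ
    have hle : P ⊔ Q ≤ (P ⊔ U) ⊔ R := sup_le_sup le_sup_left hQR
    have hle' : (P ⊔ Q) ⊔ U ≤ (P ⊔ U) ⊔ R :=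
      sup_le hle (le_sup_right.trans le_sup_left)
    have hQimg : ∀ x (hx : x ∈ Q), Ψ ⟨x, hle (Subgroup.mem_sup_right hx)⟩ ∈ Q := by
      intro x hx
      have hx' : x ∈ centralizerIn R U := hQdef.le hx
      refine hQdef.ge (mem_centralizerIn'.2 ⟨hΨR.le ⟨_, hx'.1, rfl⟩, fun u hu => ?_⟩)
      rw [← hΨU u hu, ← map_inv, ← map_mul, ← map_mul]
      exact congrArg Ψ (Subtype.ext ((mem_centralizerIn'.1 hx').2 u hu))
    refine ⟨restrictHom Ψ hle, (hK _).ge ⟨restrict_mem hΨ hle, sup_le hPC hQC, fun w =>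
      forall_mem_sup (restrictHom Ψ hle) le_sup_left le_sup_right
        (fun x hx => (hΨP ⟨x, hx⟩).symm ▸ hval _)
        (fun x hx => hQC (hQimg x hx)) w.2 w.2,
      restrictHom Ψ hle', restrict_mem hΨ hle', fun x => rfl, fun u => hΨU u u.2⟩,
      fun x => hΨP x, ?_⟩
    have := finite_of_le (hQC.trans (centralizerIn_le _ _))
    refine Subgroup.eq_of_le_of_card_ge ?_ ?_
    · rintro _ ⟨⟨x, _⟩, hx, rfl⟩
      exact hQimg x hx
    · exact (card_imgHom (F.injective_of_mem (restrict_mem hΨ hle)) le_sup_right).ge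
  have := finite_of_le (centralizerIn_le S U)
  refine isConstrained_of_fix (hS.to_le (centralizerIn_le _ _)) hKs hQn
    fun P hPc hQP γ hγ hγc hfix => ?_
  have hPC := hPc.1
  have hPS : P ≤ S := hPC.trans (centralizerIn_le _ _)
  obtain ⟨Ψ, hΨ, hΨP, hΨU, hΨR⟩ := hext ((mem_autGroup_iff hPC).1 hγ)
  have hWS : (P ⊔ U) ⊔ R ≤ S := sup_le (sup_le hPS hUS) hRS
  have hΨmem : ∀ w, Ψ w ∈ (P ⊔ U) ⊔ R := fun w =>
    forall_mem_sup Ψ le_sup_left le_sup_right
      (fun x hx => Subgroup.mem_sup_left (forall_mem_sup (restrictHom Ψ le_sup_left)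
        le_sup_left le_sup_right
        (fun y hy => Subgroup.mem_sup_left ((hΨP ⟨y, hy⟩).symm ▸ (γ _).2))
        (fun y hy => Subgroup.mem_sup_right ((hΨU y hy).symm ▸ hy)) hx hx))
      (fun x hx => Subgroup.mem_sup_right (hΨR.le ⟨_, hx, rfl⟩)) w.2 w.2
  obtain ⟨a, ha, hav⟩ := exists_aut_restrict hΨ le_rfl fun x hx => hΨmem ⟨x, hx⟩
  have := finite_of_le hWS
  have : Finite (MulAut ↥((P ⊔ U) ⊔ R)) := Finite.of_injective
    (fun f : MulAut ↥((P ⊔ U) ⊔ R) => (f : ↥((P ⊔ U) ⊔ R) → ↥((P ⊔ U) ⊔ R)))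
    DFunLike.coe_injective
  obtain ⟨k, hk, hγk⟩ := exists_coprime_pow hγc a
  have hPW : P ≤ (P ⊔ U) ⊔ R := le_sup_left.trans le_sup_left
  have hUW : U ≤ (P ⊔ U) ⊔ R := le_sup_right.trans le_sup_left
  have hbP : ∀ x : P, ((a ^ k) (Subgroup.inclusion hPW x) : Ω) = (γ x : Ω) := fun x => by
    rw [← pow_agree hPW (fun y => ((hav _).trans (hΨP y)).symm) k x, hγk]
  have hbU : ∀ u (hu : u ∈ U), ((a ^ k) ⟨u, hUW hu⟩ : Ω) = u := fun u hu => by
    have h1 := pow_agree hUW (b := (1 : MulAut U))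
      (fun y => ((hav _).trans (hΨU y y.2)).symm) k ⟨u, hu⟩
    rw [one_pow] at h1
    exact h1.symm
  have hb := pow_mem ha k
  obtain ⟨r, hr, hrv⟩ := exists_restrict_aut (F := F) (V := R) le_sup_right hWS ha fun x hx => by
    rw [hav]
    exact hΨR.le ⟨x, hx, rfl⟩
  -- the automorphism is trivial on `R`
  have hrone : r ^ k = 1 := by
    have := finite_of_le hRS
    refine eq_one_of_axb (hS.to_le hRS) (isPGroup_autInducedBy (hS.to_le hUS) R)
      (Nat.Coprime.of_dvd_left (orderOf_dvd_of_pow_eq_one (MulEquiv.ext fun x => Subtype.ext (by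
        rw [← pow_mul, pow_agree le_sup_right hrv _ x, pow_mul, pow_orderOf_eq_one]; rfl))) hk)
      (fun b hb => ?_) fun x hx => ?_
    · obtain ⟨u, hu, -, hbv⟩ := mem_autInducedBy_iff.1 hb
      refine MulEquiv.ext fun x => Subtype.ext ?_
      rw [MulAut.mul_apply, MulAut.mul_apply, hbv, pow_agree le_sup_right hrv k (b x),
        pow_agree le_sup_right hrv k x]
      have hxW : (x : Ω) ∈ (P ⊔ U) ⊔ R := Subgroup.mem_sup_right x.2
      have e : Subgroup.inclusion le_sup_right (b x) =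
          (⟨u, hUW hu⟩ : ↥((P ⊔ U) ⊔ R)) * ⟨x, hxW⟩ * ⟨u, hUW hu⟩⁻¹ := Subtype.ext (hbv x)
      rw [e, map_mul, map_mul, map_inv, Subgroup.coe_mul, Subgroup.coe_mul, Subgroup.coe_inv,
        hbU u hu]
      rfl
    · have hxQ : (x : Ω) ∈ Q := by
        rw [hQdef]
        refine mem_centralizerIn'.2 ⟨x.2, fun u hu => ?_⟩
        have huN : u ∈ Subgroup.normalizer (R : Set Ω) :=
          stronglyClosed_le_normalizer (stronglyClosed_of_normal hR) (hUX hu)
        have h1 := congrArg Subtype.val (hx (R.normalizerMonoidHom ⟨u, huN⟩)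
          (mem_autInducedBy_iff.2 ⟨u, hu, huN, fun _ => rfl⟩))
        have h2 : u * (x : Ω) * u⁻¹ = x := h1
        rw [mul_inv_eq_iff_eq_mul] at h2 ⊢
        exact h2.symm
      refine Subtype.ext ?_
      rw [pow_agree le_sup_right hrv k x]
      refine Eq.trans ?_ ((hbP ⟨x, hQP hxQ⟩).trans (congrArg Subtype.val
        (hfix ⟨x, hQP hxQ⟩ hxQ)))
      rfl
  have hbR : ∀ x : ↥((P ⊔ U) ⊔ R), (x : Ω) ∈ R → (a ^ k) x = x := fun x hx => by
    have h1 := pow_agree le_sup_right hrv k ⟨x, hx⟩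
    rw [hrone] at h1
    exact Subtype.ext h1.symm
  have hone : a ^ k = 1 := eq_one_of_fix_displacement (hS.to_le hWS) hk fun x =>
    hbR _ (hRc ⟨mul_mem (Subgroup.inv_mem _ (sup_le (sup_le (hPC.trans hCC) hUX) hR.1 x.2))
      (sup_le (sup_le (hPC.trans hCC) hUX) hR.1 ((a ^ k) x).2),
      displacement_centralizes le_sup_right (fun y z hz => FusionFactor.conj_mem_of_stronglyClosed
        (stronglyClosed_of_normal hR) (sup_le (sup_le (hPC.trans hCC) hUX) hR.1 y.2) hz) hbR x⟩)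
  refine MulEquiv.ext fun x => Subtype.ext ?_
  rw [← hbP x, hone]
  rfl

/-- A saturated system is of characteristic `p`-type or of component type. -/
theorem charPType_or_componentType [Finite S] [Fact p.Prime] (hS : IsPGroup p S)
    (hF : F.IsSaturated p) : F.IsOfCharacteristicPType p ∨ F.IsOfComponentType p := by
  by_contra hcon
  push Not at hcon
  obtain ⟨hncp, hnct⟩ := hcon
  refine hncp fun U hUne hUn N hN => ?_
  have hUS := hUn.1
  have hpr : p.Prime := Fact.out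
  have hNS := normalizerIn_le S U
  have := finite_of_le hNS
  have hNp := hS.to_le hNS
  have hUN : U ≤ normalizerIn S U := le_normalizerIn hUS
  -- a subgroup of order `p` of `U` central in its normalizer
  obtain ⟨x, hxU, hxo, hxc⟩ : ∃ x ∈ U, orderOf x = p ∧ ∀ g ∈ normalizerIn S U, g * x = x * g := by
    have : (U.subgroupOf (normalizerIn S U)).Normal :=
      ⟨fun n hn g => (Subgroup.mem_normalizer_iff.1 g.2.2 _).1 hn⟩
    have : Group.IsNilpotent (normalizerIn S U) := hNp.isNilpotent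
    have hne : U.subgroupOf (normalizerIn S U) ≠ ⊥ := fun h => hUne (by
      rwa [Subgroup.subgroupOf_eq_bot, disjoint_iff, inf_eq_left.2 hUN] at h)
    obtain ⟨I, hIdef⟩ : ∃ I, I = U.subgroupOf (normalizerIn S U) ⊓
        Subgroup.center (normalizerIn S U) := ⟨_, rfl⟩
    have hI : I ≠ ⊥ := hIdef ▸ CfsgLib.Solvable.inf_center_ne_bot hne
    have : Nontrivial I := (Subgroup.nontrivial_iff_ne_bot I).2 hI
    obtain ⟨n, hn, hIc⟩ := (hNp.to_subgroup I).nontrivial_iff_card.1 this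
    obtain ⟨z, hz⟩ := exists_prime_orderOf_dvd_card' (G := I) p
      (hIc ▸ dvd_pow_self p hn.ne')
    have hzI : (z : normalizerIn S U) ∈ U.subgroupOf (normalizerIn S U) ⊓
        Subgroup.center (normalizerIn S U) := hIdef ▸ z.2
    refine ⟨(z : normalizerIn S U), hzI.1, by rw [Subgroup.orderOf_coe, Subgroup.orderOf_coe, hz],
      fun g hg => ?_⟩
    exact congrArg Subtype.val (Subgroup.mem_center_iff.1 hzI.2 ⟨g, hg⟩)
  obtain ⟨X, hXdef⟩ : ∃ X, X = Subgroup.zpowers x := ⟨_, rfl⟩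
  have hXU : X ≤ U := hXdef ▸ Subgroup.zpowers_le.2 hxU
  have hNX : normalizerIn S U ≤ centralizerIn S X := fun g hg => by
    refine ⟨hg.1, ?_⟩
    rw [hXdef]
    exact Subgroup.mem_centralizer_iff.2 fun y hy => by
      obtain ⟨i, rfl⟩ := Subgroup.mem_zpowers_iff.1 hy
      exact ((Commute.symm (hxc g hg) : Commute x g).zpow_left i)
  -- move `X` to a fully normalized subgroup
  have hXS : X ≤ S := hXU.trans hUS
  obtain ⟨X', hXX', hX'⟩ := exists_fullyNormalized (F := F) hXS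
  obtain ⟨hX'a, hX'r⟩ := automized_receptive hS hF hX'
  obtain ⟨ψ₀, hψ₀, -, hψ₀X⟩ := exists_map_normalizerIn hS hX'a hX'r hXX'
  have hNN : normalizerIn S U ≤ normalizerIn S X :=
    hNX.trans (centralizerIn_le_normalizerIn S X)
  obtain ⟨ψ, hψ, hψv⟩ : ∃ ψ ∈ F.Hom (normalizerIn S U),
      ∀ w, ψ w = ψ₀ (Subgroup.inclusion hNN w) := ⟨_, restrict_mem hψ₀ hNN, fun _ => rfl⟩
  obtain ⟨U', hU'def⟩ : ∃ U', U' = imgHom ψ U := ⟨_, rfl⟩
  have hUU' : F.IsConj U U' := hU'def ▸ isConj_restrict hψ hUN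
  have hU'n : F.IsFullyNormalized U' := by
    refine ⟨le_of_isConj_right hUU', fun V hV => (hUn.2 V (isConj_trans hUU' hV)).trans ?_⟩
    rw [← card_imgHom (F.injective_of_mem hψ) le_rfl, imgHom_self, hU'def]
    have := finite_of_le (normalizerIn_le S (imgHom ψ U))
    exact Subgroup.card_le_of_le (SatCriterion.range_le_normalizerIn hψ hUN le_rfl)
  have hUc := fullyCentralized_of_normalized hS hF hUn
  have hU'c := fullyCentralized_of_normalized hS hF hU'n
  have hX'U : X' ≤ U' := by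
    rw [← hψ₀X, hU'def]
    rintro _ ⟨w, hw, rfl⟩
    exact ⟨⟨w, hUN (hXU hw)⟩, hXU hw, hψv _⟩
  have hU'X : U' ≤ centralizerIn S X' := by
    rw [hU'def]
    rintro _ ⟨w, hw, rfl⟩
    refine ⟨apply_mem hψ w, ?_⟩
    rw [← hψ₀X, hψv]
    refine map_mem_centralizer (ψ := ψ₀) (le_normalizerIn hXS) (g := Subgroup.inclusion hNN w) ?_
    exact (hNX (hUN hw)).2
  have hX'p : Nat.card X' = p := by
    rw [← card_eq_of_isConj hXX', hXdef, Nat.card_zpowers, hxo]
  have hX'S := hX'.1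
  obtain ⟨G, hG⟩ := exists_isCentralizerSystem F hX'S
  have := finite_of_le (centralizerIn_le S X')
  have hGs := isSaturated_centralizerSystem hS hF (fullyCentralized_of_normalized hS hF hX') hG
  have hGc : G.IsConstrained p := by
    by_contra hne
    exact hnct ⟨X', hX'p, hX', G, hG,
      exists_component _ (hS.to_le (centralizerIn_le S X')) G le_rfl hGs hne⟩
  obtain ⟨K', hK'⟩ := exists_isCentralizerSystem F hU'c.1
  obtain ⟨K, hK⟩ := exists_isCentralizerSystem F hUS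
  have hK'c := isConstrained_centralizer_of_le hS hF hU'c hX'U hU'X hG hGc hK'
  have hWN : U ⊔ centralizerIn S U ≤ normalizerIn S U :=
    sup_le hUN (centralizerIn_le_normalizerIn S U)
  have hKc := isConstrained_centralizer_of_conj hS hUc (restrict_mem hψ hWN)
    (by
      rw [hU'def]
      exact SatCriterion.imgHom_congr le_sup_left hUN fun _ _ => rfl) hK hK' hK'c
  -- the normalizer system
  have hNs := isSaturated_normalizerSystem hS hF hUn hN
  have hUnorm := WeakClosed.normSystem_isNormal hUS hN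
  have hC : centralizerIn S U = centralizerIn (normalizerIn S U) U :=
    le_antisymm (le_inf (centralizerIn_le_normalizerIn S U) inf_le_right)
      (inf_le_inf_right _ hNS)
  obtain ⟨E, hE⟩ := exists_isCentralizerSystem N hUN
  have hEhom : ∀ P, K.Hom P = E.Hom P := fun P => by
    rw [hK P, hE P]
    ext φ
    constructor
    · rintro ⟨hφ, hP, hv, Φ, hΦ, hΦP, hΦU⟩
      have hΦimg : (U.subgroupOf (P ⊔ U)).map Φ = U := le_antisymm
        (by
          rintro _ ⟨⟨u, _⟩, hu, rfl⟩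
          exact (hΦU ⟨u, hu⟩).symm ▸ hu)
        (fun u hu => ⟨⟨u, Subgroup.mem_sup_right hu⟩, hu, hΦU ⟨u, hu⟩⟩)
      refine ⟨(hN P).ge ⟨hφ, hP.trans (centralizerIn_le_normalizerIn S U),
        fun x => centralizerIn_le_normalizerIn S U (hv x), Φ, hΦ, hΦP, hΦimg⟩, hC ▸ hP,
        fun x => hC ▸ hv x, Φ, (hN _).ge ⟨hΦ, sup_le (hP.trans (centralizerIn_le_normalizerIn S U))
          hUN, fun w => forall_mem_sup Φ le_sup_left le_sup_right
            (fun y hy => (hΦP ⟨y, hy⟩).symm ▸ centralizerIn_le_normalizerIn S U (hv _))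
            (fun y hy => (hΦU ⟨y, hy⟩).symm ▸ hUN hy) w.2 w.2,
          restrictHom Φ (sup_le le_rfl le_sup_right), restrict_mem hΦ _, fun _ => rfl, ?_⟩,
        hΦP, hΦU⟩
      exact (SatCriterion.imgHom_congr (φ := restrictHom Φ (sup_le le_rfl le_sup_right)) (ψ := Φ)
        le_sup_right le_sup_right fun _ _ => rfl).trans hΦimg
    · rintro ⟨hφ, hP, hv, Φ, hΦ, hΦP, hΦU⟩
      exact ⟨WeakClosed.normSystem_le hN P hφ, hC.symm ▸ hP, fun x => hC.symm ▸ hv x, Φ,
        WeakClosed.normSystem_le hN _ hΦ, hΦP, hΦU⟩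
  have hEc := isConstrained_congr hC hEhom hKc
  have hEn := centralizerSystem_isNormalIn hNp hNs hUnorm hE
  have hsup := FusionFactor.isNormal_sup N (isNormal_core_of_invariant hNp hNs hEn.1.2.2) hUnorm
  refine ⟨hNs, _, hsup, FusionConstrained.isCentric_of_stronglyClosed
    (stronglyClosed_of_normal hsup) fun g hg => Subgroup.mem_sup_left ?_⟩
  have := finite_of_le (centralizerIn_le (normalizerIn S U) U)
  exact FusionConstrained.core_centralizer_le hEc
    ⟨centralizerIn_anti le_sup_right hg, (centralizerIn_anti le_sup_left hg).2⟩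

end CfsgLib.FusionLayer
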