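/-
A system has a terminating alternating series of residual subsystems exactly when it is constrained
with `p`-solvable automizer of its largest normal subgroup.
-/
import Cfsg.Agent.FusionLayer.Constrained
import Cfsg.Agent.FusionLayer.Residual.Transport
import Cfsg.Agent.FusionSub.PSolvableModel
import Cfsg.Agent.FusionSub.RealizedNormal
import Cfsg.Agent.Fusion.PPowerIndex
import Cfsg.Agent.Fusion.PPowerIndexNormal

set_option autoImplicit false

namespace CfsgLib.FusionLayer

open Cfsg Cfsg.FusionSystem CfsgLib.Fusion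
open CfsgLib.PrimeToPIndex (pGen)

universe u

/-! ### Group facts -/

section group

variable {A B : Type*} [Group A] [Group B] {p : ℕ} [Fact p.Prime]

/-- Injective homomorphisms pull back `p`-solvability. -/
theorem isPSolvable_of_injective (hB : IsPSolvable p B) {f : A →* B} (hf : Function.Injective f) :
    IsPSolvable p A :=
  PLocal.isPSolvable_congr (PLocal.isPSolvable_subgroup hB f.range)
    (MonoidHom.ofInjective hf).symm

/-- A group is `p`-solvable when the kernel of a map to a `p`-solvable group is a `p`-group. -/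
theorem isPSolvable_of_ker [Finite A] (hB : IsPSolvable p B) (f : A →* B)
    (hf : IsPGroup p f.ker) : IsPSolvable p A :=
  PLocal.isPSolvable_of_extension f.ker (PLocal.isPSolvable_of_isPGroup hf)
    (isPSolvable_of_injective hB (QuotientGroup.kerLift_injective f))

/-- A power of `b` of `p`-power order that does not move a power-compatible element `a` of `p`-power
order. -/
theorem exists_pPow_pow [Finite B] {a : A} {k : ℕ} (ha : orderOf a = p ^ k) (b : B) :
    ∃ e j : ℕ, orderOf (b ^ e) = p ^ j ∧ a ^ e = a := by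
  have hp : p.Prime := Fact.out
  obtain ⟨j, m, hm, hn⟩ := Nat.exists_eq_pow_mul_and_not_dvd (orderOf_pos b).ne' p hp.ne_one
  obtain ⟨r, hr⟩ := exists_pow_eq_self_of_coprime (n := m) (x := a)
    (ha ▸ (hp.coprime_iff_not_dvd.2 hm).symm.pow_right k)
  obtain ⟨i, -, hi⟩ := (Nat.dvd_prime_pow hp).1 (orderOf_dvd_of_pow_eq_one (by
    rw [← pow_mul, show m * r * p ^ j = p ^ j * m * r by ring, ← hn, pow_mul, pow_orderOf_eq_one,
      one_pow]) : orderOf (b ^ (m * r)) ∣ p ^ j)
  exact ⟨m * r, i, hi, by rw [pow_mul]; exact hr⟩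

/-- The elements of `p`-power order generate a normal subgroup. -/
theorem pPow_closure_normal :
    (Subgroup.closure {a : A | ∃ k : ℕ, orderOf a = p ^ k}).Normal := by
  refine ⟨fun n hn g => ?_⟩
  have h : (MulAut.conj g).toMonoidHom n ∈
      (Subgroup.closure {a : A | ∃ k : ℕ, orderOf a = p ^ k}).map (MulAut.conj g).toMonoidHom :=
    Subgroup.mem_map_of_mem _ hn
  rw [MonoidHom.map_closure] at h
  refine Subgroup.closure_mono ?_ h
  rintro _ ⟨a, ⟨k, hk⟩, rfl⟩
  exact ⟨k, hk ▸ (MulAut.conj g).orderOf_eq a⟩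

/-- A group is `p`-solvable when the subgroup generated by its elements of `p`-power order is. -/
theorem isPSolvable_of_pPow_closure [Finite A]
    (h : IsPSolvable p (Subgroup.closure {a : A | ∃ k : ℕ, orderOf a = p ^ k})) :
    IsPSolvable p A := by
  have := pPow_closure_normal (A := A) (p := p)
  obtain ⟨N, hN⟩ : ∃ N, N = Subgroup.closure {a : A | ∃ k : ℕ, orderOf a = p ^ k} := ⟨_, rfl⟩
  rw [← hN] at h this
  refine PLocal.isPSolvable_of_extension N h (PLocal.isPSolvable_of_coprime ?_)
  rw [Nat.coprime_comm, (Fact.out : p.Prime).coprime_iff_not_dvd]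
  intro hd
  obtain ⟨x, hx⟩ := exists_prime_orderOf_dvd_card' p hd
  obtain ⟨g, rfl⟩ := QuotientGroup.mk'_surjective N x
  obtain ⟨a, b, -, -, ⟨k, hk⟩, hb, hab⟩ := LocalStructure.exists_pPart_mul (p := p) g
  have ha : a ∈ N := hN ▸ Subgroup.subset_closure ⟨k, hk⟩
  have e : QuotientGroup.mk' N g = QuotientGroup.mk' N b := by
    rw [← hab, map_mul, show QuotientGroup.mk' N a = 1 from (QuotientGroup.eq_one_iff a).2 ha,
      one_mul]
  rw [e] at hx
  have h1 : p ∣ orderOf b := hx ▸ orderOf_map_dvd _ b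
  exact (Fact.out : p.Prime).coprime_iff_not_dvd.1 hb.symm h1

/-- A group is `p`-solvable when its residual `O^p` is. -/
theorem isPSolvable_of_pResidual [Finite A] (h : IsPSolvable p (pResidual p A)) :
    IsPSolvable p A := by
  have : (pResidual p A).Normal := by
    refine ⟨fun n hn g => ?_⟩
    exact CfsgLib.Transfer.map_pResidual_le (MulAut.conj g).toMonoidHom ⟨n, hn, rfl⟩
  exact PLocal.isPSolvable_of_extension _ h
    (PLocal.isPSolvable_of_isPGroup CfsgLib.Transfer.isPGroup_quotient_pResidual)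

/-- A nontrivial `p`-solvable group generated by elements of `p`-power order has proper `O^p`. -/
theorem pResidual_ne_top [Finite A] [Nontrivial A] (hA : IsPSolvable p A)
    (hgen : Subgroup.closure {a : A | ∃ k : ℕ, orderOf a = p ^ k} = ⊤) :
    pResidual p A ≠ ⊤ := by
  intro htop
  obtain ⟨n, C, h0, hlast, hmono, hnorm, hfac⟩ := hA
  suffices hall : ∀ i, C i = ⊤ by
    have := hall 0
    rw [h0] at this
    exact bot_ne_top this
  intro i
  induction i using Fin.reverseInduction with
  | last => exact hlast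
  | cast i ih =>
    have := hnorm i.castSucc
    have hi : (C i.castSucc).index = (C i.castSucc).relIndex (C i.succ) := by
      rw [ih, Subgroup.relIndex_top_right]
    rcases hfac i with ⟨m, hm⟩ | hm
    · exact top_le_iff.1 (htop ▸ CfsgLib.Transfer.pResidual_le_of_index_eq_pow _ (hi.trans hm))
    · refine top_le_iff.1 (hgen ▸ (Subgroup.closure_le _).2 ?_)
      rintro a ⟨k, hk⟩
      rw [SetLike.mem_coe, ← QuotientGroup.eq_one_iff, ← orderOf_eq_one_iff]
      refine Nat.eq_one_of_dvd_coprimes ((hi ▸ hm : Nat.Coprime _ p).pow_right k) ?_ ?_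
      · rw [Subgroup.index_eq_card]
        exact orderOf_dvd_natCard _
      · exact hk ▸ orderOf_map_dvd (QuotientGroup.mk' _) a

end group

variable {Ω : Type u} [Group Ω] {S T : Subgroup Ω} {F : FusionSystem S} {p : ℕ}

/-! ### Restriction to a normal subgroup -/

/-- Restriction of automizers to a strongly closed subgroup. -/
theorem exists_res [Finite S] {R P : Subgroup Ω} (hR : F.StronglyClosed R) (hRP : R ≤ P)
    (hP : P ≤ S) : ∃ f : F.autGroup P →* F.autGroup R,
      ∀ (a : F.autGroup P) (x : R), ((f a : MulAut R) x : Ω) = ((a : MulAut P) ⟨x, hRP x.2⟩ : Ω) := by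
  have hst : ∀ a ∈ F.autGroup P, a ∈ SatCriterion.stab F P R := fun a ha =>
    ⟨ha, fun x => stronglyClosed_aut_iff hR ha⟩
  exact ⟨((SatCriterion.res F hRP).comp (Subgroup.inclusion hst)).codRestrict _
    fun a => SatCriterion.res_mem hRP hP _, fun a x => rfl⟩

/-- The automizer of an overgroup is `p`-solvable when that of a self-centralizing normal subgroup
is. -/
theorem isPSolvable_autGroup_of_normal [Finite S] [Fact p.Prime] (hS : IsPGroup p S)
    (hhyp : F.hyperfocalSubgroup p ≤ T) {R P : Subgroup Ω}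
    (hR : F.IsNormal R) (hc : centralizerIn T R ≤ R) (hRP : R ≤ P) (hP : P ≤ S)
    (hA : IsPSolvable p (F.autGroup R)) : IsPSolvable p (F.autGroup P) := by
  have := finite_of_le hP
  obtain ⟨f, hf⟩ := exists_res (stronglyClosed_of_normal hR) hRP hP
  have : Finite (MulAut P) := Finite.of_injective (fun g : MulAut P => (g : P → P))
    DFunLike.coe_injective
  refine isPSolvable_of_ker hA f (isPGroup_of_coprime_trivial ?_)
  rintro ⟨⟨γ, hγ⟩, hker⟩ hord
  have hfix : ∀ x : P, (x : Ω) ∈ R → γ x = x := fun x hx => by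
    refine Subtype.ext ((hf ⟨γ, hγ⟩ ⟨x, hx⟩).symm.trans ?_)
    rw [show f ⟨γ, hγ⟩ = 1 from hker]
    rfl
  have hγc : (orderOf γ).Coprime p := by rwa [← Subgroup.orderOf_coe, ← Subgroup.orderOf_coe] at hord
  refine Subtype.ext (Subtype.ext (?_ : γ = 1))
  refine eq_one_of_fix_displacement (hS.to_le hP) hγc fun x => hfix _ (hc ⟨hhyp ?_,
    displacement_centralizes hRP (fun y r hr => FusionFactor.conj_mem_of_stronglyClosed
      (stronglyClosed_of_normal hR) (hP y.2) hr) hfix x⟩)
  exact inv_mul_apply_mem_hyperfocal hP (Subgroup.mem_map_of_mem _ (Subgroup.subset_closure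
    (show (orderOf (⟨γ, hγ⟩ : F.autGroup P)).Coprime p by rwa [← Subgroup.orderOf_coe]))) x

/-- The automizer in a subsystem is a subgroup of the automizer in the system. -/
theorem autGroup_mono {E : FusionSystem T} (hEF : E.IsSubsystemOf F) {P : Subgroup Ω}
    (hP : P ≤ T) : E.autGroup P ≤ F.autGroup P := fun a ha =>
  IsIso.mem_autGroup (hEF P ((mem_autGroup_iff hP).1 ha))

theorem isPSolvable_autGroup_of_pPowerIndex [Finite T] [Fact p.Prime] {U : Subgroup Ω}
    {E : FusionSystem T} {D : FusionSystem U} (hD : D.HasPPowerIndexIn E p) {R : Subgroup Ω}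
    (hR : R ≤ U) (hRT : R ≤ T) (hA : IsPSolvable p (D.autGroup R)) :
    IsPSolvable p (E.autGroup R) := by
  have := finite_of_le hRT
  have : Finite (MulAut R) := Finite.of_injective (fun g : MulAut R => (g : R → R))
    DFunLike.coe_injective
  refine isPSolvable_of_pResidual (isPSolvable_of_injective hA
    (f := (((E.autGroup R).subtype).comp (pResidual p (E.autGroup R)).subtype).codRestrict
      (D.autGroup R) fun a => hD.2.2 R hR ⟨a.1, a.2, rfl⟩) fun a b h => ?_)
  exact Subtype.ext (Subtype.ext (congrArg Subtype.val h :))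

theorem isPSolvable_autGroup_of_primeToPIndex [Finite S] [Fact p.Prime] {E : FusionSystem S}
    (hE : E.HasPrimeToPIndexIn F p) {R : Subgroup Ω} (hR : R ≤ S)
    (hA : IsPSolvable p (E.autGroup R)) : IsPSolvable p (F.autGroup R) := by
  have := finite_of_le hR
  have : Finite (MulAut R) := Finite.of_injective (fun g : MulAut R => (g : R → R))
    DFunLike.coe_injective
  refine isPSolvable_of_pPow_closure (isPSolvable_of_injective hA
    (f := (((F.autGroup R).subtype).comp (Subgroup.closure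
      {α : F.autGroup R | ∃ k : ℕ, orderOf α = p ^ k}).subtype).codRestrict
      (E.autGroup R) fun a => hE.2 R hR ⟨a.1, a.2, rfl⟩) fun a b h => ?_)
  exact Subtype.ext (Subtype.ext (congrArg Subtype.val h :))

/-! ### A terminating series gives constraint and solvability -/

/-- The centric subgroups of a subsystem of index prime to `p`. -/
theorem isCentric_iff_of_primeToPIndex [Finite S] [Fact p.Prime] (hS : IsPGroup p S)
    (hF : F.IsSaturated p) {E : FusionSystem S} (hE : E.HasPrimeToPIndexIn F p)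
    (P : Subgroup Ω) : E.IsCentric P ↔ F.IsCentric P :=
  (CfsgLib.PrimeToPIndex.main hS hF hE.1 fun Q hQ => hE.2 Q hQ.1).2.2 P

theorem invariant_of_isPPrimeResidual [Finite S] [Fact p.Prime] (hS : IsPGroup p S)
    (hF : F.IsSaturated p) {E : FusionSystem S} (hE : F.IsPPrimeResidual p E) :
    E.IsInvariantIn F := by
  have hFi : F.IsInvariantIn F := by
    refine ⟨fun P φ h => h, CfsgLib.PrimeToPIndex.stronglyClosed_self, ?_, fun P hP φ hφ => ?_⟩
    · exact autInvariant_of_strongInvariant CfsgLib.PrimeToPIndex.stronglyClosed_self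
        fun P Q hPQ hQ φ hφ hφQ ψ hψ => by
        obtain ⟨θ, hθ, hθv⟩ := F.inv_mem hψ
        have hle : (P.subgroupOf Q).map ψ ≤ ψ.range := Subgroup.map_le_range ψ _
        have hθP : ∀ z, restrictHom θ hle z ∈ P := by
          rintro ⟨_, x, hx, rfl⟩
          show θ ⟨ψ x, _⟩ ∈ P
          rw [hθv x]
          exact hx
        have hmid := F.comp_mem (restrict_mem hθ hle) hφ hθP
        have hmidQ : ∀ z, φ.comp ((restrictHom θ hle).codRestrict P hθP) z ∈ Q := fun z => hφQ _
        refine ⟨_, F.comp_mem hmid hψ hmidQ, fun x hx => ?_⟩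
        show ψ ⟨φ ⟨θ ⟨ψ (Subgroup.inclusion hPQ x), _⟩, _⟩, _⟩ = ψ ⟨φ x, _⟩
        refine congrArg ψ (Subtype.ext (congrArg φ (Subtype.ext ?_)))
        exact hθv (Subgroup.inclusion hPQ x)
    · exact ⟨1, one_mem _, φ, hφ, fun x hx => rfl⟩
  exact ⟨hE.2.1.1, CfsgLib.PrimeToPIndex.stronglyClosed_self,
    autInvariant_of_isPPrimeResidual hS hF hFi hE,
    fun P hP φ hφ => frattini_of_hasPrimeToPIndexIn hS hF hFi hE.2.1 hP hφ⟩

theorem invariant_of_isPResidual [Finite S] [Fact p.Prime] (hS : IsPGroup p S)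
    (hF : F.IsSaturated p) {D : FusionSystem (F.hyperfocalSubgroup p)} (hD : F.IsPResidual p D) :
    D.IsNormalIn F p :=
  CfsgLib.PPowerIndexNormal.isNormalIn_of_pPowerIndex hS hF hyperfocal_le
    (fun _ hs _ ht => conj_mem_hyperfocal hs ht) hD.1 hD.2

theorem constrained_of_series {q : ℕ} {S : Subgroup Ω} {F : FusionSystem S}
    (h : F.HasTerminatingResidualSeries q) : ∀ [Fact q.Prime] [Finite S], IsPGroup q S →
      F.IsSaturated q → F.IsConstrained q ∧ IsPSolvable q (F.autGroup F.core) := by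
  induction h with
  | @trivial S F p hS1 =>
    intro _ _ hS hF
    have hn : F.IsNormal S := by
      refine ⟨le_rfl, fun P φ hφ => ?_⟩
      have hPS : P ⊔ S = S := sup_eq_right.2 (le_left hφ)
      refine ⟨(P ⊔ S).subtype, subtype_mem hPS.le, fun x => ?_, ?_⟩
      · have h1 : (x : Ω) ∈ S := le_left hφ x.2
        have h2 := apply_mem hφ x
        rw [hS1, Subgroup.mem_bot] at h1 h2
        rw [h2]
        exact h1
      · exact SatCriterion.imgHom_subtype le_sup_right
    have hc : F.IsCentric S := isCentric_self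
    refine ⟨⟨hF, S, hn, hc⟩, PLocal.isPSolvable_of_coprime ?_⟩
    have hcore : F.core = ⊥ := le_bot_iff.1 (hS1 ▸ (FusionFactor.isNormal_core F).1)
    rw [hcore]
    have : Subsingleton (MulAut (⊥ : Subgroup Ω)) :=
      ⟨fun a b => MulEquiv.ext fun x => Subsingleton.elim _ _⟩
    rw [Nat.card_of_subsingleton (1 : F.autGroup (⊥ : Subgroup Ω))]
    exact Nat.coprime_one_left p
  | @step S F E p D hE hD _ ih =>
    intro _ _ hS hF
    have hEs := hE.1
    have hhS : E.hyperfocalSubgroup p ≤ S := hyperfocal_le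
    have := finite_of_le hhS
    obtain ⟨hDc, hDA⟩ := ih (hS.to_le hhS) hD.1
    -- `E` is constrained
    have hDn := invariant_of_isPResidual hS hEs hD
    have hR : E.IsNormal D.core := isNormal_core_of_invariant hS hEs hDn.1.2.2
    have hRc := FusionConstrained.core_centralizer_le hDc
    have hEc := isConstrained_of_centralizer hS hEs le_rfl hR hRc
    have hEA : IsPSolvable p (E.autGroup E.core) :=
      isPSolvable_autGroup_of_normal hS le_rfl hR hRc (le_sSup hR)
        (FusionFactor.isNormal_core E).1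
        (isPSolvable_autGroup_of_pPowerIndex hD.2 (FusionFactor.isNormal_core D).1 hR.1 hDA)
    -- `F` is constrained
    have hEn := invariant_of_isPPrimeResidual hS hF hE
    have hQ : F.IsNormal E.core := isNormal_core_of_invariant hS hF hEn
    have hQc := FusionConstrained.core_centralizer_le hEc
    have hQcen : F.IsCentric E.core :=
      (isCentric_iff_of_primeToPIndex hS hF hE.2.1 _).1 (FusionConstrained.isCentric_of_stronglyClosed
        (stronglyClosed_of_normal (FusionFactor.isNormal_core E)) hQc)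
    exact ⟨⟨hF, E.core, hQ, hQcen⟩, isPSolvable_autGroup_of_normal hS hyperfocal_le hQ hQc
      (le_sSup hQ) (FusionFactor.isNormal_core F).1
      (isPSolvable_autGroup_of_primeToPIndex hE.2.1 (FusionFactor.isNormal_core E).1 hEA)⟩

/-! ### Constraint and solvability give a terminating series -/

/-- Powers of a realized automorphism are realized by powers. -/
theorem pow_conj {G : Type*} [Group G] {ι : S →* G} {P : Subgroup Ω} (hP : P ≤ S) {a : MulAut P}
    {g : G} (hg : ∀ w : P, ι ⟨(a w : P), hP (Subtype.mem _)⟩ = g * ι ⟨w, hP w.2⟩ * g⁻¹) :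
    ∀ (n : ℕ) (w : P), ι ⟨((a ^ n) w : P), hP (Subtype.mem _)⟩ =
      g ^ n * ι ⟨w, hP w.2⟩ * (g ^ n)⁻¹ := by
  intro n
  induction n with
  | zero => intro w; simp
  | succ n ih =>
    intro w
    have e : (⟨((a ^ (n + 1)) w : P), hP (Subtype.mem _)⟩ : S) =
        ⟨((a ^ n) (a w) : P), hP (Subtype.mem _)⟩ := Subtype.ext (by rw [pow_succ]; rfl)
    rw [e, ih (a w), hg w, pow_succ]
    group

/-- The hyperfocal subgroup of a realized system lies in `O^p` of the group. -/
theorem map_hyperfocal_le [Finite S] [Fact p.Prime] {G : Type*} [Group G] [Finite G] {ι : S →* G}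
    (hF : F.IsRealizedBy ι) {y : S} (hy : (y : Ω) ∈ F.hyperfocalSubgroup p) :
    ι y ∈ pResidual p G := by
  suffices h : F.hyperfocalSubgroup p ≤ ((pResidual p G).comap ι).map S.subtype by
    obtain ⟨z, hz, hzy⟩ := h hy
    obtain rfl : z = y := Subtype.ext hzy
    exact hz
  refine (Subgroup.closure_le _).2 ?_
  rintro _ ⟨P, α, x, hP, hα, rfl⟩
  suffices h : ∀ β : F.autGroup P, β ∈ pResidual p (F.autGroup P) → ∀ z : P,
      ι ((⟨z, hP z.2⟩ : S)⁻¹ * ⟨((β : MulAut P) z : P), hP (Subtype.mem _)⟩) ∈ pResidual p G from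
    ⟨_, h α hα x, rfl⟩
  intro β hβ
  have hmul : ∀ a b : F.autGroup P,
      (∀ z : P, ι ((⟨z, hP z.2⟩ : S)⁻¹ * ⟨((a : MulAut P) z : P), hP (Subtype.mem _)⟩) ∈
        pResidual p G) →
      (∀ z : P, ι ((⟨z, hP z.2⟩ : S)⁻¹ * ⟨((b : MulAut P) z : P), hP (Subtype.mem _)⟩) ∈
        pResidual p G) →
      ∀ z : P, ι ((⟨z, hP z.2⟩ : S)⁻¹ * ⟨(((a * b : F.autGroup P) : MulAut P) z : P),
        hP (Subtype.mem _)⟩) ∈ pResidual p G := fun a b ha hb z => by
    have h := mul_mem (hb z) (ha ((b : MulAut P) z))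
    rw [← map_mul] at h
    convert h using 2
    refine Subtype.ext ?_
    show (z : Ω)⁻¹ * ((a : MulAut P) ((b : MulAut P) z) : Ω) = _
    simp only [Subgroup.coe_mul, Subgroup.coe_inv]
    group
  induction hβ using Subgroup.closure_induction with
  | one =>
    intro z
    convert one_mem (pResidual p G) using 1
    rw [← map_one ι]
    exact congrArg ι (Subtype.ext (inv_mul_cancel (z : Ω)))
  | mul a b _ _ ha hb => exact hmul a b ha hb
  | inv a _ ha =>
    intro z
    have h := inv_mem (ha ((a : MulAut P)⁻¹ z))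
    rw [← map_inv] at h
    convert h using 2
    refine Subtype.ext ?_
    show (z : Ω)⁻¹ * (((a⁻¹ : F.autGroup P) : MulAut P) z : Ω) = _
    simp
  | mem a ha =>
    intro z
    obtain ⟨g, hg⟩ := (hF.2 P hP _ fun x => hP ((a : MulAut P) x).2).1 ((mem_autGroup_iff hP).1 a.2)
    obtain ⟨k, hk, hak⟩ := exists_coprime_pow (A := F.autGroup P) ha g
    have hgk : g ^ k ∈ pResidual p G := Subgroup.subset_closure hk
    have := pow_conj hP (a := (a : MulAut P)) hg k z
    rw [← SubgroupClass.coe_pow, hak] at this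
    rw [map_mul, map_inv, this]
    have hN : (pResidual p G).Normal := by
      refine ⟨fun n hn g => ?_⟩
      exact CfsgLib.Transfer.map_pResidual_le (MulAut.conj g).toMonoidHom ⟨n, hn, rfl⟩
    rw [← mul_assoc, ← mul_assoc]
    refine mul_mem ?_ (inv_mem hgk)
    have := hN.conj_mem _ hgk (ι ⟨z, hP z.2⟩)⁻¹
    rwa [inv_inv] at this

/-- A saturated system of `p`-solvable type which is its own `p'`-residual has proper hyperfocal
subgroup. -/
theorem hyperfocal_ne_of_self_residual [Finite S] [Fact p.Prime] (hS : IsPGroup p S) (hS1 : S ≠ ⊥)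
    (hres : ∀ D : FusionSystem S, D.IsSaturated p → D.HasPrimeToPIndexIn F p → F.IsSubsystemOf D)
    {G : Type*} [Group G] [Finite G] (hG : IsPSolvable p G) {ι : S →* G} (hι : F.IsRealizedBy ι)
    (U : Sylow p G) (hU : (U : Subgroup G) = ι.range) : F.hyperfocalSubgroup p ≠ S := by
  obtain ⟨H, hHdef⟩ : ∃ H, H = Subgroup.closure {a : G | ∃ k : ℕ, orderOf a = p ^ k} := ⟨_, rfl⟩
  have : H.Normal := hHdef ▸ pPow_closure_normal
  have hUH : (U : Subgroup G) ≤ H := fun x hx => hHdef ▸ Subgroup.subset_closure (by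
    obtain ⟨k, hk⟩ := U.isPGroup' ⟨x, hx⟩
    obtain ⟨j, -, hj⟩ := (Nat.dvd_prime_pow (Fact.out : p.Prime)).1
      (orderOf_dvd_of_pow_eq_one (congrArg Subtype.val hk : x ^ p ^ k = 1))
    exact ⟨j, hj⟩)
  have htop : (H.comap ι).map S.subtype = S := by
    refine le_antisymm (Subgroup.map_subtype_le _) fun x hx => ?_
    exact (FusionSub.mem_part_iff ι H hx).2 (hUH (hU.ge ⟨_, rfl⟩))
  obtain ⟨D, hD, hDhom⟩ : ∃ D : FusionSystem S, D.IsSaturated p ∧
      ∀ P, D.Hom P = (FusionSub.normalPart ι H).Hom P := by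
    have key : ∀ {M M' : Subgroup Ω} (E : FusionSystem M') (_ : M' = M) (_ : E.IsSaturated p),
        ∃ E' : FusionSystem M, E'.IsSaturated p ∧ ∀ P, E'.Hom P = E.Hom P := by
      intro M M' E e hs
      subst e
      exact ⟨E, hs, fun _ => rfl⟩
    exact key _ htop (FusionSub.normalPart_isSaturated hι.1 U hU H)
  have hDF : D.IsSubsystemOf F := fun P φ h => by
    obtain ⟨-, -, -, hP, hφ, g, -, hg⟩ := (hDhom P).le h
    exact (hι.2 P hP φ hφ).2 ⟨g, hg⟩
  have hDi : D.HasPrimeToPIndexIn F p := by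
    refine ⟨hDF, fun P hP => ?_⟩
    rw [MonoidHom.map_closure, Subgroup.closure_le]
    rintro _ ⟨a, ⟨k, hk⟩, rfl⟩
    have := finite_of_le hP
    obtain ⟨g, hg⟩ := (hι.2 P hP _ fun x => hP ((a : MulAut P) x).2).1 ((mem_autGroup_iff hP).1 a.2)
    obtain ⟨e, j, hj, heq⟩ := exists_pPow_pow hk g
    refine IsIso.mem_autGroup ((hDhom P).ge ?_)
    refine ⟨hP.trans htop.ge, fun x => htop.ge (hP ((a : MulAut P) x).2),
      P.subtype_injective.comp (a : MulAut P).injective, hP, fun x => hP ((a : MulAut P) x).2,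
      g ^ e, hHdef ▸ Subgroup.subset_closure ⟨j, hj⟩, fun x => ?_⟩
    have := pow_conj hP (a := (a : MulAut P)) hg e x
    rw [← SubgroupClass.coe_pow, heq] at this
    exact this
  have hFD := hres D hD hDi
  let κ : S →* H := ι.codRestrict H fun x => hUH (hU.ge ⟨x, rfl⟩)
  have hκ : F.IsRealizedBy κ := by
    refine ⟨fun a b h => hι.1 (congrArg Subtype.val h :), fun P hP φ hφ => ⟨fun h => ?_, ?_⟩⟩
    · obtain ⟨-, -, -, _, _, g, hg, hgv⟩ := (hDhom P).le (hFD P h)
      exact ⟨⟨g, hg⟩, fun x => Subtype.ext (hgv x)⟩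
    · rintro ⟨g, hg⟩
      exact (hι.2 P hP φ hφ).2 ⟨g, fun x => congrArg Subtype.val (hg x)⟩
  intro hhyp
  have hne : Nontrivial H := by
    rw [Subgroup.nontrivial_iff_ne_bot]
    intro hbot
    refine hS1 (le_bot_iff.1 fun x hx => ?_)
    have h1 : ι ⟨x, hx⟩ = 1 := by
      have := hUH (hU.ge ⟨⟨x, hx⟩, rfl⟩)
      rwa [hbot, Subgroup.mem_bot] at this
    exact congrArg Subtype.val (hι.1 (h1.trans (map_one ι).symm))
  have hgen : Subgroup.closure {a : H | ∃ k : ℕ, orderOf a = p ^ k} = ⊤ := by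
    refine top_le_iff.1 fun x _ => ?_
    suffices h : H ≤ (Subgroup.closure {a : H | ∃ k : ℕ, orderOf a = p ^ k}).map H.subtype by
      obtain ⟨y, hy, hyx⟩ := h x.2
      obtain rfl : y = x := Subtype.ext hyx
      exact hy
    conv_lhs => rw [hHdef]
    refine (Subgroup.closure_le _).2 ?_
    rintro a ⟨k, hk⟩
    exact ⟨⟨a, hHdef ▸ Subgroup.subset_closure ⟨k, hk⟩⟩, Subgroup.subset_closure
      ⟨k, by rw [← Subgroup.orderOf_coe]; exact hk⟩, rfl⟩
  refine pResidual_ne_top (PLocal.isPSolvable_subgroup hG H) hgen ?_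
  let W : Sylow p H := U.subtype hUH
  have hW : (W : Subgroup H) ≤ pResidual p H := by
    intro x hx
    obtain ⟨s, hs⟩ := (hU.le (show (x : G) ∈ (U : Subgroup G) from hx) : (x : G) ∈ ι.range)
    rw [show x = κ s from Subtype.ext hs.symm]
    exact map_hyperfocal_le hκ (hhyp.ge s.2)
  have hN : (pResidual p H).Normal := by
    refine ⟨fun n hn g => ?_⟩
    exact CfsgLib.Transfer.map_pResidual_le (MulAut.conj g).toMonoidHom ⟨n, hn, rfl⟩
  refine top_le_iff.1 (hgen ▸ (Subgroup.closure_le _).2 ?_)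
  rintro a ⟨k, hk⟩
  obtain ⟨g, hg⟩ := exists_conj_mem_sylow W (X := Subgroup.zpowers a)
    (isPGroup_zpowers_of_pow_eq_one (k := k) (by rw [← hk, pow_orderOf_eq_one]))
  have h1 := hN.conj_mem _ (hW (hg _ (Subgroup.mem_zpowers a))) g⁻¹
  rwa [show g⁻¹ * (g * a * g⁻¹) * g⁻¹⁻¹ = a by group] at h1

theorem series_of_constrained [Fact p.Prime] (n : ℕ) : ∀ {S : Subgroup Ω} [Finite S],
    Nat.card S ≤ n → IsPGroup p S → ∀ F : FusionSystem S, F.IsConstrained p →
      IsPSolvable p (F.autGroup F.core) → F.HasTerminatingResidualSeries p := by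
  induction n using Nat.strong_induction_on with
  | _ n ih =>
  intro S _ hn hS F hFc hA
  by_cases hS1 : S = ⊥
  · exact .trivial F p hS1
  have hF := hFc.1
  have hE := CfsgLib.PPrimeResidual.residual_isPPrimeResidual hS hF
  generalize CfsgLib.PPrimeResidual.residual F p = E at hE
  have hEi := invariant_of_isPPrimeResidual hS hF hE
  have hEc := FusionConstrained.isConstrained_of_subsystem hS hFc hEi.2.1 hEi.1 hE.1
  -- automizers of normal subgroups of `F` are `p`-solvable
  obtain ⟨G₀, hG₀g, hG₀f, ι₀, hG₀, hι₀, U₀, hU₀⟩ :=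
    (FusionSub.isPSolvable_realized_iff hS hF).2 ⟨hFc, hA⟩
  have haut : ∀ {R : Subgroup Ω}, F.IsNormal R → IsPSolvable p (F.autGroup R) := by
    intro R hR
    obtain ⟨G, _, ι, hm⟩ := exists_model hS hF (FusionFactor.isNormal_core F)
      (FusionConstrained.isCentric_of_stronglyClosed
        (stronglyClosed_of_normal (FusionFactor.isNormal_core F))
        (FusionConstrained.core_centralizer_le hFc))
    have := hm.1
    obtain ⟨f, hf, hker⟩ := FusionSub.exists_surj_autGroup hm (FusionFactor.isNormal_core F)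
    obtain ⟨Q', -, hQ'im, hQ'n⟩ := exists_pCore_preimage hm
    have hkp : IsPGroup p f.ker :=
      (PLocal.isPGroup_pCore p G).to_le ((hker.trans (Subgroup.centralizer_le
        (hQ'im ▸ im_mono ι (le_sSup hQ'n)))).trans hm.2.2.2)
    obtain ⟨f', hf', -⟩ := FusionSub.exists_surj_autGroup hm hR
    exact PLocal.isPSolvable_of_surjective (isPSolvable_of_ker hA f hkp) hf'
  have hEA : IsPSolvable p (E.autGroup E.core) := by
    have hQ := isNormal_core_of_invariant hS hF hEi
    exact isPSolvable_of_injective (haut hQ)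
      (Subgroup.inclusion_injective (autGroup_mono hEi.1 (FusionFactor.isNormal_core E).1))
  obtain ⟨G, hGg, hGf, ι, hG, hι, U, hU⟩ :=
    (FusionSub.isPSolvable_realized_iff hS hE.1).2 ⟨hEc, hEA⟩
  have hproper : E.hyperfocalSubgroup p ≠ S := by
    refine hyperfocal_ne_of_self_residual hS hS1 (fun D hD hDi => hE.2.2 D hD
      ⟨fun P φ h => hE.2.1.1 P (hDi.1 P h), fun P hP => ?_⟩) hG hι U hU
    rw [MonoidHom.map_closure, Subgroup.closure_le]
    rintro _ ⟨a, ⟨k, hk⟩, rfl⟩
    have ha : (a : MulAut P) ∈ E.autGroup P :=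
      hE.2.1.2 P hP ⟨a, Subgroup.subset_closure ⟨k, hk⟩, rfl⟩
    exact hDi.2 P hP ⟨⟨_, ha⟩, Subgroup.subset_closure
      ⟨k, by rw [← hk, ← Subgroup.orderOf_coe a, ← Subgroup.orderOf_coe]⟩, rfl⟩
  have hhS : E.hyperfocalSubgroup p ≤ S := hyperfocal_le
  obtain ⟨D, hDs, hDi⟩ := CfsgLib.PPowerIndex.exists_pPowerIndex (Nat.card S) hS E hE.1 (E.hyperfocalSubgroup p)
    hhS le_rfl (Nat.le_add_left _ _)
  have := finite_of_le hhS
  have hDn := invariant_of_isPResidual hS hE.1 (D := D) ⟨hDs, hDi⟩
  have hDc := FusionConstrained.isConstrained_of_subsystem hS hEc hDn.1.2.2.2.1 hDn.1.2.2.1 hDs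
  have hR := isNormal_core_of_invariant hS hE.1 hDn.1.2.2
  obtain ⟨G', _, ι', hm⟩ := exists_model hS hE.1 (FusionFactor.isNormal_core E)
    (FusionConstrained.isCentric_of_stronglyClosed
      (stronglyClosed_of_normal (FusionFactor.isNormal_core E))
      (FusionConstrained.core_centralizer_le hEc))
  have := hm.1
  obtain ⟨f, hf, hker⟩ := FusionSub.exists_surj_autGroup hm (FusionFactor.isNormal_core E)
  obtain ⟨Q', -, hQ'im, hQ'n⟩ := exists_pCore_preimage hm
  have hkp : IsPGroup p f.ker :=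
    (PLocal.isPGroup_pCore p G').to_le ((hker.trans (Subgroup.centralizer_le
      (hQ'im ▸ im_mono ι' (le_sSup hQ'n)))).trans hm.2.2.2)
  obtain ⟨f', hf', -⟩ := FusionSub.exists_surj_autGroup hm hR
  have hDA : IsPSolvable p (D.autGroup D.core) :=
    isPSolvable_of_injective (PLocal.isPSolvable_of_surjective (isPSolvable_of_ker hEA f hkp) hf')
      (Subgroup.inclusion_injective (autGroup_mono hDi.1 (FusionFactor.isNormal_core D).1))
  have hlt : Nat.card (E.hyperfocalSubgroup p) < Nat.card S :=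
    card_lt_of_lt (lt_of_le_of_ne hhS hproper) le_rfl
  exact .step F E p D hE ⟨hDs, hDi⟩ (ih _ (hlt.trans_le hn) le_rfl (hS.to_le hhS) D hDc hDA)

end CfsgLib.FusionLayer
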